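import Cfsg.Agent.H494.R4.HN
import Cfsg.Agent.H597.Degrees
import Cfsg.Agent.H954.LD.Row
import Cfsg.Agent.H315.PwHN

/-!
# Invariant rational characters of degrees 16929 and 653125 of the Harada–Norton group (helper456)

`H494/R4/HN.lean` for `MulAut HN`; the characters of odd degree restrict irreducibly to `HN`.
-/

set_option autoImplicit false
set_option maxRecDepth 10000

namespace Cfsg.Agent.H456.LD.HN.Chi

open Cfsg Cfsg.Agent.Characters.Core Cfsg.Agent.H443.HN.Scheme Cfsg.Agent.H443.HN.Frame Cfsg.Agent.HN.Distinct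
  Cfsg.Agent.HN Cfsg.Agent.HN.DCover Cfsg.Agent.HN.NormalH Cfsg.Agent.HN.Index Cfsg.Agent.H187.Scheme.HN
  Cfsg.Agent.H619.R4
open Cfsg.Agent.H494.R4.HN (cent_Q exists_perm φ φ_apply ty_of_norm card_T index_le_two Q)

universe u

/-- the group of the model -/
local notation "T" => Cfsg.Agent.H443.HN.Frame.G

set_option maxHeartbeats 2000000 in
theorem core {G : Type u} [Group G] [Finite G] {N : Subgroup G} [N.Normal]
    (hC : Subgroup.centralizer (N : Set G) = ⊥) (hidx : N.index ≤ 2) (e : T ≃* N) :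
    ∃ α β : IrrCharacter G, (α : G → ℂ) 1 = (16929 : ℕ) ∧ (β : G → ℂ) 1 = (653125 : ℕ) ∧ (∀ g, ∃ q : ℚ, (α : G → ℂ) g = q) ∧
      ∀ g, ∃ q : ℚ, (β : G → ℂ) g = q := by
  classical
  obtain ⟨F, hF, hx, hg⟩ := exists_act hC cent_Q exists_perm (φ.symm.trans e)
  let _ : MulAction G V := MulAction.compHom V F
  have hsm : ∀ (g : G) (x : V), g • x = F g x := fun g x => rfl
  have hi : ∀ (q : T) (x : V), ((e q : N) : G) • x = q • x := by
    intro q x
    have h1 := hx (φ q)
    have h2 : (φ.symm.trans e) (φ q) = e q := by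
      show e (φ.symm (φ q)) = e q
      rw [MulEquiv.symm_apply_apply]
    rw [h2] at h1
    rw [hsm, h1, φ_apply]
  have hty : ∀ (g : G) (x y : V), ty (g • x) (g • y) = ty x y := by
    intro g x y
    refine ty_of_norm (F g) (((φ.symm.trans e).trans (MulAut.conjNormal g)).trans (φ.symm.trans e).symm) ?_ x y
    intro q
    exact hg g q
  have htr : ∀ x y x' y' : V, ty x y = ty x' y' → ∃ g : G, g • x = x' ∧ g • y = y' := by
    intro x y x' y' h
    obtain ⟨t, h1, h2⟩ := ty_trans x y x' y' h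
    exact ⟨(e t : N), by rw [hi, h1], by rw [hi, h2]⟩
  have := Fintype.ofFinite G
  obtain ⟨χ, M, h1, h2, -, h4, h5, h6, h7⟩ : ∃ (χ : Fin 8 → G → ℂ) (M : Fin 8 → Fin 8 → ℕ),
      (∀ s, IsCharacter G (χ s)) ∧ (∀ s, χ s 1 = nn s) ∧ (∀ g : G, ∑ s, χ s g = Nat.card (MulAction.fixedBy V g)) ∧
      (∀ s g, ∃ q : ℚ, χ s g = q) ∧ (∀ s t, classInner (χ s) (χ t) = M s t) ∧ (∀ s, 0 < M s s) ∧
      ∑ s, ∑ t, M s t ≤ 9 := by
    refine Cfsg.Agent.H38.K4.Scheme.main_rat (G := G) (ty := ty) (K := K) (i0 := 0) (i1 := 1) ty_zero ty_one count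
      hty htr L th ok eig pp prod_eq pp_ne cc DD cp sum_eq DD_ne nn (fun s => ?_) nn_ne
    rw [Nat.card_eq_fintype_card, Cfsg.Agent.H443.HN.Row.card_V]
    exact nn_eq s
  have hirr : ∀ s, M s s = 1 → IsIrrCharacter G (χ s) := fun s h =>
    isIrr_of_classInner_self (h1 s) (by rw [h5, h, Nat.cast_one])
  have hNc : Nat.card N = 273030912000000 := (Nat.card_congr e.toEquiv).symm.trans card_T
  have hG : Nat.card G = 273030912000000 * N.index := by rw [← N.card_mul_index, hNc]
  have h0 : N.index ≠ 0 := Subgroup.index_ne_zero_of_finite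
  have hne : M 1 1 ≠ 1 := by
    intro h
    have h8 := Blocks.Knorr.charDegree_dvd (hirr 1 h)
    have h9 : charDegree (χ 1) = 12749 := Cfsg.Agent.Blocks.Basic.charDegree_of_eq (h2 1)
    rw [h9, hG] at h8
    have h10 : N.index = 1 ∨ N.index = 2 := by omega
    rcases h10 with h10 | h10
    · rw [h10] at h8
      revert h8
      norm_num
    · rw [h10] at h8
      revert h8
      norm_num
  have h11 : M 2 2 = 1 ∧ M 4 4 = 1 := by
    simp only [Fin.sum_univ_eight] at h7
    have e0 := h6 0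
    have e1 := h6 1
    have e2 := h6 2
    have e3 := h6 3
    have e4 := h6 4
    have e5 := h6 5
    have e6 := h6 6
    have e7 := h6 7
    omega
  refine ⟨⟨χ 2, hirr 2 h11.1⟩, ⟨χ 4, hirr 4 h11.2⟩, ?_, ?_, h4 2, h4 4⟩
  · show χ 2 1 = _
    rw [h2 2]
    rfl
  · show χ 4 1 = _
    rw [h2 4]
    rfl

open Cfsg.Agent.H954.LD (Inv)

/-- An irreducible character of odd degree of `MulAut T` gives an invariant character of `T`. -/
theorem exists_inv [Finite T] {β : IrrCharacter (MulAut T)} {n : ℕ} (hn : (β : MulAut T → ℂ) 1 = n)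
    (hodd : Odd n) (hq : ∀ g, ∃ q : ℚ, (β : MulAut T → ℂ) g = q) :
    ∃ α : IrrCharacter T, (α : T → ℂ) 1 = n ∧ Inv α ∧ ∀ g, ∃ q : ℚ, (α : T → ℂ) g = q := by
  have := Fintype.ofFinite (MulAut T)
  set N : Subgroup (MulAut T) := (MulAut.conj : T →* MulAut T).range with hN
  have hconj : ∀ (b : MulAut T) (s : T), MulAut.conj (b s) = b * MulAut.conj s * b⁻¹ := by
    intro b s
    ext x
    simp [MulAut.mul_apply, MulAut.conj_apply]
  have hnorm : N.Normal := by
    constructor
    rintro _ ⟨s, rfl⟩ b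
    exact ⟨b s, hconj b s⟩
  have hd : charDegree (β : MulAut T → ℂ) = n := Cfsg.Agent.Blocks.Basic.charDegree_of_eq hn
  have hcop : Nat.Coprime N.index (charDegree (β : MulAut T → ℂ)) := by
    have h0 : N.index ≠ 0 := Subgroup.index_ne_zero_of_finite
    have h2 := index_le_two
    have h3 : N.index = 1 ∨ N.index = 2 := by
      have : N.index ≤ 2 := h2
      omega
    rw [hd]
    rcases h3 with h3 | h3
    · rw [h3]; exact Nat.coprime_one_left n
    · rw [h3]; exact hodd.coprime_two_left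
  have h1 := Cfsg.Agent.H597.Degrees.isIrr_restrict_of_coprime N β.2 hcop
  have h2 : IsIrrCharacter T (fun s => (β : MulAut T → ℂ) (MulAut.conj s)) := by
    have h3 := isIrr_comp (MulAut.conj : T →* MulAut T).rangeRestrict
      (MulAut.conj : T →* MulAut T).rangeRestrict_surjective h1
    exact h3
  refine ⟨⟨_, h2⟩, ?_, ?_, fun g => hq _⟩
  · show (β : MulAut T → ℂ) (MulAut.conj 1) = n
    rw [map_one, hn]
  · intro b s
    show (β : MulAut T → ℂ) (MulAut.conj (b s)) = (β : MulAut T → ℂ) (MulAut.conj s)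
    rw [hconj]
    exact isIrr_isClassFunction β.2 _ _

theorem main : ∃ α β : IrrCharacter T, (α : T → ℂ) 1 = (16929 : ℕ) ∧ (β : T → ℂ) 1 = (653125 : ℕ) ∧ Inv α ∧ Inv β ∧
    ∀ g, ∃ q : ℚ, (β : T → ℂ) g = q := by
  have hs : IsSimpleGroup T := Cfsg.Agent.S1701.result.1
  have hf : Finite T := Nat.finite_of_card_ne_zero (by rw [card_T]; norm_num)
  have hna : ¬ IsMulCommutative T := fun h => Cfsg.Agent.H315.PwHN.notComm fun a b => h.is_comm.comm a b
  set N : Subgroup (MulAut T) := (MulAut.conj : T →* MulAut T).range with hN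
  have hconj : ∀ (b : MulAut T) (s : T), MulAut.conj (b s) = b * MulAut.conj s * b⁻¹ := by
    intro b s
    ext x
    simp [MulAut.mul_apply, MulAut.conj_apply]
  have hnorm : N.Normal := by
    constructor
    rintro _ ⟨s, rfl⟩ b
    exact ⟨b s, hconj b s⟩
  have hcen : Subgroup.center T = ⊥ := center_bot_of hna
  have hinj : Function.Injective (MulAut.conj : T →* MulAut T) := by
    rw [injective_iff_map_eq_one]
    intro a ha
    have : a ∈ Subgroup.center T := by
      rw [Subgroup.mem_center_iff]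
      intro g
      have h1 := congrArg (fun f : MulAut T => f g) ha
      simp only [MulAut.conj_apply, MulAut.one_apply] at h1
      rw [mul_inv_eq_iff_eq_mul] at h1
      exact h1.symm
    rw [hcen] at this
    exact this
  have hC : Subgroup.centralizer (N : Set (MulAut T)) = ⊥ := by
    rw [eq_bot_iff]
    intro b hb
    rw [Subgroup.mem_centralizer_iff] at hb
    rw [Subgroup.mem_bot]
    ext s
    have h1 := hb (MulAut.conj s) ⟨s, rfl⟩
    have h2 : MulAut.conj (b s) = MulAut.conj s := by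
      rw [hconj, ← h1, mul_inv_cancel_right]
    exact hinj h2
  obtain ⟨α, β, h1, h2, h3, h4⟩ := core hC index_le_two (MonoidHom.ofInjective hinj)
  obtain ⟨a, ha1, ha2, -⟩ := exists_inv (n := 16929) h1 (by decide) h3
  obtain ⟨b, hb1, hb2, hb3⟩ := exists_inv (n := 653125) h2 (by decide) h4
  exact ⟨a, b, ha1, hb1, ha2, hb2, hb3⟩

end Cfsg.Agent.H456.LD.HN.Chi
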