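import Cfsg.Agent.H456.LD.HN.Val
import Cfsg.Agent.H653.CycSign
import Cfsg.Agent.S4698

/-!
# The 5-block of the character of degree 653125 of the Harada–Norton group (helper456)
-/

set_option autoImplicit false
set_option maxRecDepth 100000

open scoped ComplexConjugate
open Cfsg Subgroup

namespace Cfsg.Agent.H456.LD.HN.Blk

open Cfsg.Agent.Characters.Core
open Cfsg.Agent.H173.RS.HNRow (u orderOf_u card_HN)
open Cfsg.Agent.H456.LD.HN.Tab (A5 t2 z5)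
open Cfsg.Agent.H456.LD.HN.Types Cfsg.Agent.H456.LD.HN.Grp Cfsg.Agent.H456.LD.HN.Val Cfsg.Agent.H456.LD.HN.Enum

local notation "Γ" => Cfsg.Spor.HN

instance fact5 : Fact (Nat.Prime 5) := ⟨by norm_num⟩

instance finIrr : Finite (IrrCharacter Γ) := finite_irr

/-- the degree -/
noncomputable def dd (χ : IrrCharacter Γ) : ℕ := charDegree (χ : Γ → ℂ)

theorem dd_eq (χ : IrrCharacter Γ) : (χ : Γ → ℂ) 1 = (dd χ : ℂ) := deg_eq χ

theorem dd_pos (χ : IrrCharacter Γ) : 0 < dd χ := Cfsg.Agent.Blocks.Basic.charDegree_pos χ.2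

theorem exists_aa (χ : IrrCharacter Γ) : ∃ a : ℤ, (χ : Γ → ℂ) t = a := by
  obtain ⟨-, a, -, h, -, -⟩ := Cfsg.Agent.SmallSimple.InvolColumn.exists_int_of_char (isIrr_isCharacter χ.2) t_sq
  exact ⟨a, h⟩

/-- the value at the involution -/
noncomputable def aa (χ : IrrCharacter Γ) : ℤ := (exists_aa χ).choose

theorem aa_eq (χ : IrrCharacter Γ) : (χ : Γ → ℂ) t = (aa χ : ℂ) := (exists_aa χ).choose_spec

/-- the value at `u` -/
noncomputable def vv (χ : IrrCharacter Γ) : ℤ := (types loc χ).choose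

/-- the value at `u t` -/
noncomputable def bb (χ : IrrCharacter Γ) : ℤ := (types loc χ).choose_spec.choose

/-- the weight of the column of `u z` -/
noncomputable def ww (χ : IrrCharacter Γ) : ℤ := (types loc χ).choose_spec.choose_spec.choose

theorem spec (χ : IrrCharacter Γ) : (vv χ, bb χ, ww χ) ∈ tyList ∧
    T (P : Subgroup Γ) (χ : Γ → ℂ) (1 : Γ) = 6 * vv χ ∧ T (P : Subgroup Γ) (χ : Γ → ℂ) (ρ t2 : K) = 6 * bb χ ∧
    T (P : Subgroup Γ) (χ : Γ → ℂ) (ρ z5 : K) = 3 * ww χ ∧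
    ((vv χ = 3 ∨ vv χ = -3) → ∃ (NE : Finset (IrrCharacter Γ)) (ε : IrrCharacter Γ → ℤ) (d : ℤ), NE.card = 3 ∧
      (∀ ψ ∈ NE, (ε ψ = 1 ∨ ε ψ = -1) ∧ T (P : Subgroup Γ) (ψ : Γ → ℂ) (1 : Γ) = 36 * ε ψ) ∧ vv χ = -3 * d ∧
      ∀ g : Γ, ¬ 7 ∣ orderOf g → ∑ ψ ∈ NE, (ε ψ : ℂ) * (ψ : Γ → ℂ) g = d * (χ : Γ → ℂ) g) :=
  (types loc χ).choose_spec.choose_spec.choose_spec

theorem vv_eq (χ : IrrCharacter Γ) : (χ : Γ → ℂ) u = (vv χ : ℂ) := val_u (spec χ).2.1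

theorem dvd_vv (χ : IrrCharacter Γ) : (7 : ℤ) ∣ dd χ - vv χ := dvd_v (spec χ).2.1

theorem dvd_bb (χ : IrrCharacter Γ) : (7 : ℤ) ∣ aa χ - bb χ := dvd_b (spec χ).2.2.1 (aa_eq χ)

theorem four_dvd {χ : IrrCharacter Γ} (h : dd χ ≠ 1) : |aa χ| < dd χ ∧ (4 : ℤ) ∣ dd χ - aa χ := by
  have hne : (χ : Γ → ℂ) ≠ 1 := by
    intro h1
    apply h
    have h2 := dd_eq χ
    rw [h1, Pi.one_apply] at h2
    exact_mod_cast h2.symm
  have hcomm : commutator Γ = ⊤ := by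
    rcases (inferInstance : (commutator Γ).Normal).eq_bot_or_eq_top with h1 | h1
    · exfalso
      have h2 := (_root_.commutator_eq_bot_iff_center_eq_top Γ).1 h1
      apply Cfsg.Agent.H315.PwHN.notComm
      intro a b
      have h3 : a ∈ center Γ := by rw [h2]; exact mem_top _
      exact (mem_center_iff.1 h3 b).symm
    · exact h1
  obtain ⟨a, h1, h2, h3⟩ := Cfsg.Agent.SmallSimple.InvolColumn.exists_int hcomm χ.2 hne t_sq t_ne
  have h4 : a = aa χ := by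
    have := aa_eq χ
    rw [h1] at this
    exact_mod_cast this
  rw [← h4]
  exact ⟨h2, h3⟩

theorem sum_sq_t [Fintype (IrrCharacter Γ)] : ∑ χ : IrrCharacter Γ, (aa χ) ^ 2 = 177408000 := by
  have h := Cfsg.Agent.H686.CharKit.sum_normSq (G := Γ) t
  rw [card_cent_t] at h
  have h1 : ∀ χ : IrrCharacter Γ, Complex.normSq ((χ : Γ → ℂ) t) = (((aa χ) ^ 2 : ℤ) : ℝ) := by
    intro χ
    rw [aa_eq, Complex.normSq_intCast]
    push_cast
    ring
  rw [Finset.sum_congr rfl (fun χ _ => h1 χ), ← Int.cast_sum] at h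
  exact_mod_cast h

theorem sum_sq_one [Fintype (IrrCharacter Γ)] : ∑ χ : IrrCharacter Γ, ((dd χ : ℤ)) ^ 2 = 273030912000000 := by
  have h := Cfsg.Agent.H686.CharKit.sum_normSq (G := Γ) 1
  have h3 : Nat.card (centralizer ({1} : Set Γ)) = 273030912000000 := by
    rw [← card_HN]
    have : centralizer ({1} : Set Γ) = ⊤ := by
      rw [eq_top_iff]
      intro g _
      rw [mem_centralizer_singleton_iff]
      simp
    rw [this, card_top]
  rw [h3] at h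
  have h1 : ∀ χ : IrrCharacter Γ, Complex.normSq ((χ : Γ → ℂ) 1) = (((dd χ : ℤ) ^ 2 : ℤ) : ℝ) := by
    intro χ
    rw [dd_eq, Complex.normSq_natCast]
    push_cast
    ring
  rw [Finset.sum_congr rfl (fun χ _ => h1 χ), ← Int.cast_sum] at h
  exact_mod_cast h

theorem sum_mul_t [Fintype (IrrCharacter Γ)] : ∑ χ : IrrCharacter Γ, (dd χ : ℤ) * aa χ = 0 := by
  classical
  have := Fintype.ofFinite Γ
  have h := Cfsg.Agent.S0145.sum_irr_mul_conj (G := Γ) t 1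
  rw [if_neg (fun h => t_ne (isConj_one_left.1 h))] at h
  have h1 : ∀ χ : IrrCharacter Γ, (χ : Γ → ℂ) t * conj ((χ : Γ → ℂ) 1) = (((dd χ : ℤ) * aa χ : ℤ) : ℂ) := by
    intro χ
    rw [aa_eq, dd_eq, Complex.conj_natCast]
    push_cast
    ring
  rw [Finset.sum_congr rfl (fun χ _ => h1 χ), ← Int.cast_sum] at h
  exact_mod_cast h

theorem mod_nineteen [Fintype (IrrCharacter Γ)] (χ : IrrCharacter Γ) :
    dd χ % 19 = 0 ∨ dd χ % 19 = 1 ∨ dd χ % 19 = 18 ∨ dd χ % 19 = 9 ∨ dd χ % 19 = 10 := by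
  have : Fact (Nat.Prime 19) := ⟨by norm_num⟩
  obtain ⟨y, hy⟩ := Cfsg.Agent.H315.PwHN.exists19
  obtain ⟨Q, W, -, -, -, hcol⟩ := Cfsg.Agent.H653.Sieve.exists_col notComm (N := 273030912000000) card_HN hy (k := 1)
    (by rw [Cfsg.Agent.H315.PwHN.card_nineteen hy]) 9 2 [(0, 0), (1, 2), (18, -2), (9, -1), (10, 1)] 0 false
    (by decide +kernel)
  have h := hcol.1 χ
  simp only [List.mem_cons, Prod.mk.injEq, List.not_mem_nil, or_false] at h
  rcases h with h | h | h | h | h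
  · exact Or.inl h.1
  · exact Or.inr (Or.inl h.1)
  · exact Or.inr (Or.inr (Or.inl h.1))
  · exact Or.inr (Or.inr (Or.inr (Or.inl h.1)))
  · exact Or.inr (Or.inr (Or.inr (Or.inr h.1)))

/-! ### The block -/

section block

variable {M : Ideal AlgInt} {χ0 : IrrCharacter Γ}

theorem quot_u (χ : IrrCharacter Γ) : ∃ q : ℤ, 650073600000 * vv χ = dd χ * q ∧ centralChar (χ : Γ → ℂ) u = q := by
  obtain ⟨q, hq⟩ := Cfsg.Agent.SmallSimple.InvolColumn.dvd_index_mul χ.2 (vv_eq χ)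
  rw [index_u] at hq
  have hq' : (650073600000 : ℤ) * vv χ = dd χ * q := by
    have : ((650073600000 : ℕ) : ℤ) * vv χ = dd χ * q := hq
    exact_mod_cast this
  refine ⟨q, hq', ?_⟩
  rw [Cfsg.Agent.Blocks.Basic.centralChar_def, vv_eq, dd_eq, index_u, div_eq_iff (by exact_mod_cast (dd_pos χ).ne')]
  have : (((650073600000 : ℤ) * vv χ : ℤ) : ℂ) = ((dd χ * q : ℤ) : ℂ) := by rw [hq']
  push_cast at this ⊢
  rw [this]
  ring

theorem quot_t (χ : IrrCharacter Γ) : ∃ q : ℤ, 1539000 * aa χ = dd χ * q ∧ centralChar (χ : Γ → ℂ) t = q := by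
  obtain ⟨q, hq⟩ := Cfsg.Agent.SmallSimple.InvolColumn.dvd_index_mul χ.2 (aa_eq χ)
  rw [index_t] at hq
  have hq' : (1539000 : ℤ) * aa χ = dd χ * q := by
    have : ((1539000 : ℕ) : ℤ) * aa χ = dd χ * q := hq
    exact_mod_cast this
  refine ⟨q, hq', ?_⟩
  rw [Cfsg.Agent.Blocks.Basic.centralChar_def, aa_eq, dd_eq, index_t, div_eq_iff (by exact_mod_cast (dd_pos χ).ne')]
  have : (((1539000 : ℤ) * aa χ : ℤ) : ℂ) = ((dd χ * q : ℤ) : ℂ) := by rw [hq']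
  push_cast at this ⊢
  rw [this]
  ring

/-- the hypotheses on `χ₀` -/
structure Hyp (M : Ideal AlgInt) (χ0 : IrrCharacter Γ) : Prop where
  hM : IsPModular 5 M
  deg : dd χ0 = 653125
  rat : ∀ g, ∃ q : ℚ, (χ0 : Γ → ℂ) g = q

theorem ty0 (h : Hyp M χ0) : vv χ0 = 4 ∧ bb χ0 = 0 ∧ ww χ0 = -2 := by
  have h1 := (spec χ0).1
  have h2 := dvd_vv χ0
  rw [h.deg] at h2
  have h3 := even_w h.rat (spec χ0).2.2.2.1
  simp only [tyList, List.mem_cons, Prod.mk.injEq, List.not_mem_nil, or_false] at h1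
  push_cast at h2
  omega

/-- the congruence at `u` -/
theorem cong_u (h : Hyp M χ0) {χ : IrrCharacter Γ} (hχ : χ ∈ blockOf M (χ0 : Γ → ℂ)) :
    ∃ q : ℤ, 650073600000 * vv χ = dd χ * q ∧ (5 : ℤ) ∣ q - 2 := by
  obtain ⟨q, h1, h2⟩ := quot_u χ
  obtain ⟨q0, h3, h4⟩ := quot_u χ0
  rw [(ty0 h).1, h.deg] at h3
  have hq0 : q0 = 3981312 := by
    push_cast at h3
    omega
  refine ⟨q, h1, ?_⟩
  have h5 := hχ u
  rw [h2, h4, hq0, ← Int.cast_sub, Cfsg.Agent.Blocks.Local.memLocalIdeal_intCast_iff h.hM] at h5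
  push_cast at h5
  omega

theorem cong_t (h : Hyp M χ0) {χ : IrrCharacter Γ} (hχ : χ ∈ blockOf M (χ0 : Γ → ℂ)) :
    ∃ q q0 : ℤ, 1539000 * aa χ = dd χ * q ∧ 1539000 * aa χ0 = dd χ0 * q0 ∧ (5 : ℤ) ∣ q - q0 := by
  obtain ⟨q, h1, h2⟩ := quot_t χ
  obtain ⟨q0, h3, h4⟩ := quot_t χ0
  refine ⟨q, q0, h1, h3, ?_⟩
  have h5 := hχ t
  rw [h2, h4, ← Int.cast_sub, Cfsg.Agent.Blocks.Local.memLocalIdeal_intCast_iff h.hM] at h5
  push_cast at h5
  omega

theorem pow_dvd (h : Hyp M χ0) {χ : IrrCharacter Γ} (hχ : χ ∈ blockOf M (χ0 : Γ → ℂ)) : 3125 ∣ dd χ := by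
  obtain ⟨q, h1, h2⟩ := cong_u h hχ
  have h3 : (3125 : ℤ) ∣ dd χ * q := by
    rw [← h1]
    exact Dvd.dvd.mul_right (by norm_num) _
  have h4 : IsCoprime (3125 : ℤ) q := by
    have h5 : IsCoprime (5 : ℤ) q := by
      rw [Int.isCoprime_iff_gcd_eq_one]
      rcases (Nat.dvd_prime (by norm_num : Nat.Prime 5)).1 (Nat.gcd_dvd_left 5 q.natAbs) with h6 | h6
      · exact h6
      · exfalso
        have h7 : (5 : ℕ) ∣ q.natAbs := by
          rw [← h6]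
          exact Nat.gcd_dvd_right _ _
        have h8 : (5 : ℤ) ∣ q := Int.natCast_dvd.2 h7
        omega
    have h9 : (3125 : ℤ) = 5 ^ 5 := by norm_num
    rw [h9]
    exact h5.pow_left
  have h5 := h4.dvd_of_dvd_mul_right h3
  exact_mod_cast h5

theorem defect (h : Hyp M χ0) : blockDefect 5 (blockOf M (χ0 : Γ → ℂ)) = 1 := by
  have := Cfsg.Agent.Blocks.Local.isPrime_of_isPModular h.hM
  have hs : sInf ((fun χ : IrrCharacter Γ => (charDegree (χ : Γ → ℂ)).factorization 5) '' blockOf M (χ0 : Γ → ℂ)) = 5 := by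
    apply le_antisymm
    · refine Nat.sInf_le ⟨χ0, Cfsg.Agent.Blocks.Basic.mem_blockOf_self χ0, ?_⟩
      have h1 : charDegree (χ0 : Γ → ℂ) = 653125 := h.deg
      show (charDegree (χ0 : Γ → ℂ)).factorization 5 = 5
      rw [h1, show (653125 : ℕ) = 5 ^ 5 * 209 by norm_num, Nat.factorization_mul (by norm_num) (by norm_num),
        Nat.Prime.factorization_pow (by norm_num : Nat.Prime 5), Finsupp.add_apply,
        Nat.factorization_eq_zero_of_not_dvd (show ¬ 5 ∣ 209 by norm_num), Finsupp.single_eq_same]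
    · refine le_csInf ⟨_, χ0, Cfsg.Agent.Blocks.Basic.mem_blockOf_self χ0, rfl⟩ ?_
      rintro _ ⟨χ, hχ, rfl⟩
      have h1 : 5 ^ 5 ∣ charDegree (χ : Γ → ℂ) := by
        have := pow_dvd h hχ
        exact this
      exact ((by norm_num : Nat.Prime 5).pow_dvd_iff_le_factorization (dd_pos χ).ne').1 h1
  rw [Cfsg.Agent.Blocks.Basic.blockDefect_def, hs, Cfsg.Agent.H173.RS.HNRow.fac (Or.inr rfl)]

theorem card_le (h : Hyp M χ0) : Nat.card (blockOf M (χ0 : Γ → ℂ)) ≤ 5 := by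
  have h1 := (Cfsg.Agent.S4698.result 5 M h.hM (blockOf M (χ0 : Γ → ℂ)) ⟨χ0, rfl⟩ 1 (defect h)).1 (by norm_num)
  simpa using h1

open scoped Classical in
theorem orth (h : Hyp M χ0) [Fintype (IrrCharacter Γ)] {s : Γ} (hs : ¬ 5 ∣ orderOf s) {c : IrrCharacter Γ → ℤ}
    (hc : ∀ χ : IrrCharacter Γ, (χ : Γ → ℂ) s = c χ) :
    ∑ χ ∈ Finset.univ.filter (· ∈ blockOf M (χ0 : Γ → ℂ)), ww χ * c χ = 0 := by
  have := Fintype.ofFinite Γ
  have := Fintype.ofFinite (P : Subgroup Γ)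
  have hB : IsPBlock M (blockOf M (χ0 : Γ → ℂ)) := ⟨χ0, rfl⟩
  have := Fintype.ofFinite (blockOf M (χ0 : Γ → ℂ))
  have h1 : ∀ x : (P : Subgroup Γ), x ≠ 1 →
      ∑ χ ∈ Finset.univ.filter (· ∈ blockOf M (χ0 : Γ → ℂ)), (χ : Γ → ℂ) (x * z) * conj ((χ : Γ → ℂ) s) = 0 := by
    intro x hx
    have h2 := Cfsg.Agent.H653.CycSign.sum_mul_conj_apply h.hM hB (x := (x : Γ) * z) (s := s)
      (by rw [orderOf_xz x.2 (fun e => hx (Subtype.ext e))]; norm_num) hs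
    rw [← h2]
    exact Finset.sum_subtype (Finset.univ.filter (· ∈ blockOf M (χ0 : Γ → ℂ))) (fun χ => by simp)
      (fun χ : IrrCharacter Γ => (χ : Γ → ℂ) (x * z) * conj ((χ : Γ → ℂ) s))
  have h3 : ∑ χ ∈ Finset.univ.filter (· ∈ blockOf M (χ0 : Γ → ℂ)), T (P : Subgroup Γ) (χ : Γ → ℂ) (ρ z5 : K) *
      conj ((χ : Γ → ℂ) s) = 0 := by
    have h4 : ∀ χ : IrrCharacter Γ, T (P : Subgroup Γ) (χ : Γ → ℂ) (ρ z5 : K) * conj ((χ : Γ → ℂ) s) =
        ∑ x ∈ (Finset.univ : Finset (P : Subgroup Γ)).erase 1, (χ : Γ → ℂ) (x * z) * conj ((χ : Γ → ℂ) s) := by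
      intro χ
      rw [T_erase, Finset.sum_mul]
      rfl
    rw [Finset.sum_congr rfl (fun χ _ => h4 χ), Finset.sum_comm]
    exact Finset.sum_eq_zero fun x hx => h1 x (Finset.mem_erase.1 hx).1
  have h5 : ∀ χ : IrrCharacter Γ, T (P : Subgroup Γ) (χ : Γ → ℂ) (ρ z5 : K) * conj ((χ : Γ → ℂ) s) =
      3 * ((ww χ * c χ : ℤ) : ℂ) := by
    intro χ
    rw [(spec χ).2.2.2.1, hc, map_intCast]
    push_cast
    ring
  rw [Finset.sum_congr rfl (fun χ _ => h5 χ), ← Finset.mul_sum, ← Int.cast_sum] at h3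
  have h6 := (mul_eq_zero.1 h3).resolve_left (by norm_num)
  exact_mod_cast h6

/-! ### The candidates -/

theorem vv_ne_zero (h : Hyp M χ0) {χ : IrrCharacter Γ} (hχ : χ ∈ blockOf M (χ0 : Γ → ℂ)) : vv χ ≠ 0 := by
  intro h0
  obtain ⟨q, h1, h2⟩ := cong_u h hχ
  rw [h0, mul_zero] at h1
  have h3 : q = 0 := by
    rcases mul_eq_zero.1 h1.symm with h4 | h4
    · have := dd_pos χ
      omega
    · exact h4
  omega

/-- the degree divided by 3125 -/
noncomputable def nn (χ : IrrCharacter Γ) : ℕ := dd χ / 3125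

theorem dd_nn (h : Hyp M χ0) {χ : IrrCharacter Γ} (hχ : χ ∈ blockOf M (χ0 : Γ → ℂ)) : dd χ = 3125 * nn χ :=
  (Nat.mul_div_cancel' (pow_dvd h hχ)).symm

theorem aa_sq (χ : IrrCharacter Γ) : aa χ ^ 2 ≤ 177408000 := by
  have := Fintype.ofFinite (IrrCharacter Γ)
  rw [← sum_sq_t]
  exact Finset.single_le_sum (f := fun χ : IrrCharacter Γ => aa χ ^ 2) (fun χ _ => sq_nonneg _) (Finset.mem_univ χ)

theorem dd_sq (χ : IrrCharacter Γ) : (dd χ : ℤ) ^ 2 ≤ 273030912000000 := by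
  have := Fintype.ofFinite (IrrCharacter Γ)
  rw [← sum_sq_one]
  exact Finset.single_le_sum (f := fun χ : IrrCharacter Γ => (dd χ : ℤ) ^ 2) (fun χ _ => sq_nonneg _) (Finset.mem_univ χ)

theorem mem_tyl {v b w : ℤ} (h : (v, b, w) ∈ tyList) (h0 : v ≠ 0) (h5 : ¬ (v = 5 ∨ v = -5)) : (v, b, w) ∈ tyl := by
  simp only [tyList, List.mem_cons, Prod.mk.injEq, List.not_mem_nil, or_false] at h
  rcases h with h | h | h | h | h | h | h | h | h | h | h <;> obtain ⟨rfl, rfl, rfl⟩ := h <;>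
    first
    | exact absurd rfl h0
    | exact absurd (Or.inl rfl) h5
    | exact absurd (Or.inr rfl) h5
    | decide

theorem mem_cand (h : Hyp M χ0) {χ : IrrCharacter Γ} (hχ : χ ∈ blockOf M (χ0 : Γ → ℂ)) (h5 : ¬ (vv χ = 5 ∨ vv χ = -5)) :
    (((nn χ : ℕ) : ℤ), bb χ, ww χ) ∈ cl := by
  have := Fintype.ofFinite (IrrCharacter Γ)
  obtain ⟨q, h1, h2⟩ := cong_u h hχ
  have hd := dd_nn h hχ
  have hpos := dd_pos χ
  have hn0 : 0 < nn χ := by
    rcases Nat.eq_zero_or_pos (nn χ) with h0 | h0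
    · rw [h0] at hd; omega
    · exact h0
  have h3 : 208023552 * vv χ = nn χ * q := by
    have : (3125 : ℤ) * (208023552 * vv χ) = 3125 * (nn χ * q) := by
      calc (3125 : ℤ) * (208023552 * vv χ) = 650073600000 * vv χ := by ring
        _ = dd χ * q := h1
        _ = ((3125 * nn χ : ℕ) : ℤ) * q := by rw [← hd]
        _ = _ := by push_cast; ring
    exact mul_left_cancel₀ (by norm_num) this
  refine mem_cl hn0 ?_ ?_ ?_ ?_ (mem_tyl (spec χ).1 (vv_ne_zero h hχ) h5) ?_ ?_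
  · have h4 := dd_sq χ
    rw [hd] at h4
    push_cast at h4
    by_contra hcon
    have h6 : (5288 : ℤ) ≤ nn χ := by exact_mod_cast not_lt.1 hcon
    nlinarith
  · have h4 : dd χ ∣ 273030912000000 := by
      rw [← card_HN]
      exact Cfsg.Agent.Blocks.Knorr.charDegree_dvd χ.2
    rw [hd, show (273030912000000 : ℕ) = 3125 * 87369891840 by norm_num] at h4
    exact Nat.dvd_of_mul_dvd_mul_left (by norm_num) h4
  · rw [← hd]
    exact mod_eleven χ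
  · rw [← hd]
    exact mod_nineteen χ
  · -- modulo 5
    obtain ⟨m, hm⟩ := h2
    have h6 : q = 5 * m + 2 := by omega
    rw [h6] at h3
    have h7 : (nn χ : ℤ) * (5 * m + 2) = 5 * (nn χ * m) + 2 * nn χ := by ring
    rw [h7] at h3
    generalize (nn χ : ℤ) * m = r at h3
    omega
  · have h8 := dvd_vv χ
    rw [hd] at h8
    push_cast at h8
    exact h8

/-- the residue -/
theorem mem_vals (h : Hyp M χ0) : ∃ c : ℕ, c < 5 ∧ ∀ χ : IrrCharacter Γ, χ ∈ blockOf M (χ0 : Γ → ℂ) →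
    ¬ (vv χ = 5 ∨ vv χ = -5) → aa χ ∈ As (nn χ : ℕ) (bb χ) c := by
  obtain ⟨q0, h3, h4⟩ := quot_t χ0
  refine ⟨(q0 % 5).toNat, by omega, ?_⟩
  intro χ hχ h5
  obtain ⟨q, q0', h1, h2, h6⟩ := cong_t h hχ
  have hq0 : q0' = q0 := by
    have h7 : (dd χ0 : ℤ) * q0' = dd χ0 * q0 := by rw [← h2, ← h3]
    have h8 : (dd χ0 : ℤ) ≠ 0 := by exact_mod_cast (dd_pos χ0).ne'
    exact mul_left_cancel₀ h8 h7
  rw [hq0] at h6
  have hc := mem_cand h hχ h5
  have hd := dd_nn h hχ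
  have hd1 : dd χ ≠ 1 := by omega
  obtain ⟨h9, h10⟩ := four_dvd hd1
  have hpos := dd_pos χ
  rw [hd] at h9 h10
  push_cast at h9 h10
  refine mem_As (r := ((nn χ : ℕ), bb χ, ww χ)) hc ⟨q, ?_⟩ (aa_sq χ) ?_
  · rw [h1, hd]
    push_cast
    ring
  · have h11 := dvd_bb χ
    have h12 : 1539000 * aa χ / (3125 * ((nn χ : ℕ) : ℤ)) = q := by
      rw [h1, hd]
      push_cast
      exact Int.mul_ediv_cancel_left _ (by omega)
    simp only [okA, Bool.and_eq_true, beq_iff_eq, decide_eq_true_eq]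
    refine ⟨⟨⟨by omega, by omega⟩, ?_⟩, h9⟩
    rw [h12]
    omega

end block

end Cfsg.Agent.H456.LD.HN.Blk
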