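import Cfsg.Agent.H456.LD.HN.Enum

/-!
# The candidates (helper456)
-/

set_option autoImplicit false
set_option maxRecDepth 100000

namespace Cfsg.Agent.H456.LD.HN.Enum

/-- the types prime to 5 -/
def tyl : List (ℤ × ℤ × ℤ) := [(1, 1, 2), (-1, -1, -2), (4, 0, -2), (-4, 0, 2), (6, -2, 2), (-6, 2, -2), (3, -1, 1), (-3, 1, -1)]

/-- the check of the candidates -/
def candOK (n : ℕ) : Bool :=
  n == 0 || 87369891840 % n != 0 || !((3125 * n) % 11 == 0 || (3125 * n) % 11 == 1 || (3125 * n) % 11 == 10) ||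
    !((3125 * n) % 19 == 0 || (3125 * n) % 19 == 1 || (3125 * n) % 19 == 18 || (3125 * n) % 19 == 9 || (3125 * n) % 19 == 10) ||
    tyl.all fun r => ((n : ℤ) - r.1) % 5 != 0 || (3125 * (n : ℤ) - r.1) % 7 != 0 || cl.contains ((n : ℤ), r.2.1, r.2.2)

theorem candAll : ((List.range 5288).all candOK) = true := by decide +kernel

theorem mem_cl {n : ℕ} (hn0 : 0 < n) (hn : n < 5288) (hdvd : n ∣ 87369891840)
    (h11 : (3125 * n) % 11 = 0 ∨ (3125 * n) % 11 = 1 ∨ (3125 * n) % 11 = 10)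
    (h19 : (3125 * n) % 19 = 0 ∨ (3125 * n) % 19 = 1 ∨ (3125 * n) % 19 = 18 ∨ (3125 * n) % 19 = 9 ∨ (3125 * n) % 19 = 10)
    {v b w : ℤ} (hty : (v, b, w) ∈ tyl) (h5 : (5 : ℤ) ∣ n - v) (h7 : (7 : ℤ) ∣ 3125 * n - v) : ((n : ℤ), b, w) ∈ cl := by
  have h := List.all_eq_true.1 candAll n (List.mem_range.2 hn)
  rw [candOK] at h
  simp only [Bool.or_eq_true, beq_iff_eq, bne_iff_ne, ne_eq, Bool.not_eq_true', Bool.or_eq_false_iff, List.all_eq_true,
    List.contains_iff_mem] at h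
  rcases h with (((h | h) | h) | h) | h
  · omega
  · exact absurd (Nat.mod_eq_zero_of_dvd hdvd) h
  · exfalso
    obtain ⟨⟨e1, e2⟩, e3⟩ := h
    rcases h11 with h | h | h <;> simp [h] at e1 e2 e3
  · exfalso
    obtain ⟨⟨⟨⟨e1, e2⟩, e3⟩, e4⟩, e5⟩ := h
    rcases h19 with h | h | h | h | h <;> simp [h] at e1 e2 e3 e4 e5
  · rcases h _ hty with (h | h) | h
    · exact absurd (Int.emod_eq_zero_of_dvd h5) h
    · exact absurd (Int.emod_eq_zero_of_dvd h7) h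
    · exact h

theorem dvd_of {D k a : ℤ} (hD : D ≠ 0) (h : D ∣ k * a) : D / (Int.gcd D k : ℕ) ∣ a := by
  have hg : 0 < Int.gcd D k := Int.gcd_pos_of_ne_zero_left _ hD
  have hg' : ((Int.gcd D k : ℕ) : ℤ) ≠ 0 := by exact_mod_cast hg.ne'
  obtain ⟨D', hD'⟩ := Int.gcd_dvd_left (a := D) (b := k)
  obtain ⟨k', hk'⟩ := Int.gcd_dvd_right (a := D) (b := k)
  have h1 : D / (Int.gcd D k : ℕ) = D' := by
    conv_lhs => rw [hD']
    rw [show ((Int.gcd ((Int.gcd D k : ℕ) * D') k : ℕ) : ℤ) = (Int.gcd D k : ℕ) by rw [← hD']]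
    exact Int.mul_ediv_cancel_left _ hg'
  rw [h1]
  have hcop : IsCoprime D' k' := by
    rw [Int.isCoprime_iff_gcd_eq_one]
    have h2 := Int.gcd_div_gcd_div_gcd (i := D) (j := k) hg
    rwa [h1, show k / (Int.gcd D k : ℕ) = k' by
      conv_lhs => rw [hk']
      rw [show ((Int.gcd D ((Int.gcd D k : ℕ) * k') : ℕ) : ℤ) = (Int.gcd D k : ℕ) by rw [← hk']]
      exact Int.mul_ediv_cancel_left _ hg'] at h2
  have h3 : D' ∣ k' * a := by
    obtain ⟨m, hm⟩ := h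
    refine ⟨m, ?_⟩
    have h4 : ((Int.gcd D k : ℕ) : ℤ) * (k' * a) = (Int.gcd D k : ℕ) * (D' * m) := by
      calc ((Int.gcd D k : ℕ) : ℤ) * (k' * a) = ((Int.gcd D k : ℕ) * k') * a := by ring
        _ = k * a := by rw [← hk']
        _ = D * m := hm
        _ = ((Int.gcd D k : ℕ) * D') * m := by rw [← hD']
        _ = _ := by ring
    exact mul_left_cancel₀ hg' h4
  exact hcop.dvd_of_dvd_mul_left h3

theorem gg_pos {r : ℤ × ℤ × ℤ} (h : r ∈ cl) : 0 < gg r.1 := by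
  revert r
  decide +kernel

theorem pos_of_mem {r : ℤ × ℤ × ℤ} (h : r ∈ cl) : 0 < r.1 := by
  revert r
  decide +kernel

theorem mem_As {r : ℤ × ℤ × ℤ} (hr : r ∈ cl) {c : ℕ} {a : ℤ} (hdvd : 3125 * r.1 ∣ 1539000 * a)
    (ha : a ^ 2 ≤ 177408000) (hok : okA r.1 r.2.1 c a = true) : a ∈ As r.1 r.2.1 c := by
  have hpos := pos_of_mem hr
  have hg := gg_pos hr
  obtain ⟨k, hk⟩ : gg r.1 ∣ a := dvd_of (by omega) hdvd
  have ha1 : a < 13320 := by nlinarith
  have ha2 : -13320 < a := by nlinarith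
  have hgn : ((gg r.1).toNat : ℤ) = gg r.1 := Int.toNat_of_nonneg hg.le
  have hkm : |k| ≤ mm r.1 := by
    have h1 : k.natAbs * (gg r.1).toNat < 13320 := by
      have h2 : ((k.natAbs * (gg r.1).toNat : ℕ) : ℤ) = |a| := by
        rw [hk, abs_mul, abs_of_pos hg]
        push_cast
        rw [hgn]
        ring
      have h3 : |a| < 13320 := abs_lt.2 ⟨ha2, ha1⟩
      rw [← h2] at h3
      exact_mod_cast h3
    have h2 : k.natAbs ≤ mm r.1 := by
      unfold mm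
      rw [Nat.le_div_iff_mul_le (by omega)]
      exact h1.le
    rw [Int.abs_eq_natAbs]
    exact_mod_cast h2
  rw [As, List.mem_filter]
  refine ⟨List.mem_map.2 ⟨(k + mm r.1).toNat, List.mem_range.2 ?_, ?_⟩, hok⟩
  · have := abs_le.1 hkm
    omega
  · have := abs_le.1 hkm
    rw [Int.toNat_of_nonneg (by omega), hk]
    ring

end Cfsg.Agent.H456.LD.HN.Enum
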