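import Cfsg.Agent.H456.LD.HN.Types
import Cfsg.Agent.H173.RS.HN
import Cfsg.Agent.H315.PwHN
import Cfsg.Agent.H653.Sieve.Col

/-!
# The local data of the prime 7 in the Harada–Norton group (helper456)
-/

set_option autoImplicit false
set_option maxRecDepth 100000

open scoped ComplexConjugate
open Cfsg Subgroup

namespace Cfsg.Agent.H456.LD.HN.Grp

open Cfsg.Agent.H173.RS (A12 c7 c7_comm e5 e5_injective orderOf_c7)
open Cfsg.Agent.H173.RS.HNRow
open Cfsg.Agent.SmallSimple.ThetaSetup Cfsg.Agent.SmallSimple.ThetaOrtho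
open Cfsg.Agent.H456.LD.HN.Types (Loc)
open Cfsg.Agent.H456.LD.HN.Tab (A5 t2 z5)

local notation "Γ" => Cfsg.Spor.HN

instance fact7 : Fact (Nat.Prime 7) := ⟨by norm_num⟩

/-- the embedding of `A₅` -/
noncomputable def w : A5 →* Γ := f.comp e5

theorem w_inj : Function.Injective w := f_inj.comp e5_injective

theorem w_eq (σ : A5) : (g0 σ : Γ) = w σ := rfl

/-- `K` -/
noncomputable def K : Subgroup Γ := w.range

/-- the isomorphism -/
noncomputable def ρ : A5 ≃* K := MonoidHom.ofInjective w_inj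

theorem ρ_coe (σ : A5) : (ρ σ : Γ) = w σ := rfl

theorem fac7 : (Nat.card Γ).factorization 7 = 1 := by
  rw [card_HN, show (273030912000000 : ℕ) = 7 ^ 1 * 39004416000000 by norm_num, Nat.factorization_mul (by norm_num) (by norm_num),
    Nat.Prime.factorization_pow (by norm_num : Nat.Prime 7), Finsupp.add_apply,
    Nat.factorization_eq_zero_of_not_dvd (show ¬ 7 ∣ 39004416000000 by norm_num), Finsupp.single_eq_same]

/-- the Sylow 7-subgroup -/
noncomputable def P : Sylow 7 Γ := Sylow.ofCard (zpowers u) (by rw [Nat.card_zpowers, orderOf_u, fac7, pow_one])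

theorem P_eq : (P : Subgroup Γ) = zpowers u := rfl

theorem cent_P : centralizer ((P : Subgroup Γ) : Set Γ) = X := by
  rw [P_eq, SmallSimple.SelfCentPrime.centralizer_zpowers]

theorem hP : Nat.card P = 7 := by
  show Nat.card (zpowers u) = 7
  rw [Nat.card_zpowers, orderOf_u]

theorem hK : IsComp 7 (P : Subgroup Γ) K := by
  intro y
  rw [cent_P]
  constructor
  · rintro ⟨σ, rfl⟩
    refine ⟨?_, ?_⟩
    · rw [← w_eq]; exact (g0 σ).2
    · rw [orderOf_injective w w_inj]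
      intro h
      have h1 := h.trans (orderOf_dvd_natCard σ)
      rw [Tab.card_A5] at h1
      revert h1
      norm_num
  · rintro ⟨hy, h7⟩
    obtain ⟨σ, hσ⟩ := g_surj ((QuotientGroup.mk' U) ⟨y, hy⟩)
    refine ⟨σ, ?_⟩
    have h1 : (g0 σ)⁻¹ * (⟨y, hy⟩ : X) ∈ U := by
      rw [← mk_eq_one, map_mul, map_inv]
      have h2 : (QuotientGroup.mk' U) (g0 σ) = (QuotientGroup.mk' U) ⟨y, hy⟩ := hσ
      rw [h2, inv_mul_cancel]
    set v := (g0 σ)⁻¹ * (⟨y, hy⟩ : X) with hv
    have h2 : (⟨y, hy⟩ : X) = g0 σ * v := by rw [hv, mul_inv_cancel_left]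
    have h3 : Commute (g0 σ) v := U_comm _ h1
    have h7v := U_pow h1
    have h4 : v ^ (60 * orderOf y) = 1 := by
      have e1 : (⟨y, hy⟩ : X) ^ (60 * orderOf y) = 1 := by
        apply Subtype.ext
        show y ^ (60 * orderOf y) = 1
        rw [mul_comm, pow_mul, pow_orderOf_eq_one, one_pow]
      have e2 : (g0 σ) ^ (60 * orderOf y) = 1 := by
        rw [pow_mul, ← map_pow, ← Tab.card_A5, pow_card_eq_one', map_one, one_pow]
      rw [h2, h3.mul_pow, e2, one_mul] at e1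
      exact e1
    have h5 : orderOf v ∣ Nat.gcd 7 (60 * orderOf y) := Nat.dvd_gcd (orderOf_dvd_of_pow_eq_one h7v)
      (orderOf_dvd_of_pow_eq_one h4)
    have h6 : Nat.gcd 7 (60 * orderOf y) = 1 := by
      refine (Nat.Coprime.mul_right (by norm_num) ?_ : Nat.Coprime 7 (60 * orderOf y))
      exact (Nat.Prime.coprime_iff_not_dvd (by norm_num)).2 h7
    rw [h6, Nat.dvd_one, orderOf_eq_one_iff] at h5
    rw [h5, mul_one] at h2
    exact (congrArg Subtype.val h2).symm

/-- the permutation `i ↦ 3 i` of seven points -/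
def m3 : Equiv.Perm (Fin 7) := ⟨fun i => 3 * i, fun i => 5 * i, by decide, by decide⟩

/-- the permutation `i ↦ 2 i` of five points -/
def m2 : Equiv.Perm (Fin 5) := ⟨fun i => 2 * i, fun i => 3 * i, by decide, by decide⟩

/-- the element of `A₁₂` -/
def gg : A12 := ⟨Equiv.Perm.sumCongr m3 m2, by
  rw [Equiv.Perm.mem_alternatingGroup, Equiv.Perm.sign_sumCongr]
  decide +kernel⟩

theorem gg_c7 : gg * c7 * gg⁻¹ = c7 ^ 3 := by
  apply Subtype.ext
  show Equiv.Perm.sumCongr m3 m2 * Equiv.Perm.sumCongr (finRotate 7) 1 * (Equiv.Perm.sumCongr m3 m2)⁻¹ =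
    (Equiv.Perm.sumCongr (finRotate 7) 1) ^ 3
  decide +kernel

theorem gg_e5 : gg * e5 z5 * gg⁻¹ = (e5 z5) ^ 2 := by
  apply Subtype.ext
  show Equiv.Perm.sumCongr m3 m2 * Equiv.Perm.sumCongr 1 (finRotate 5) * (Equiv.Perm.sumCongr m3 m2)⁻¹ =
    (Equiv.Perm.sumCongr 1 (finRotate 5)) ^ 2
  decide +kernel

/-- the element of `N(P)` -/
noncomputable def n0 : Γ := f gg

theorem n0_u : n0 * u * n0⁻¹ = u ^ 3 := by
  rw [n0, u, ← map_mul, ← map_inv, ← map_mul, gg_c7, map_pow]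

theorem n0_mem : n0 ∈ normalizer ((P : Subgroup Γ) : Set Γ) := by
  rw [P_eq, mem_normalizer_iff_map_conj_eq, MonoidHom.map_zpowers]
  have h1 : ((MulAut.conj n0 : MulAut Γ) : Γ →* Γ) u = u ^ 3 := n0_u
  rw [h1]
  apply Subgroup.eq_of_le_of_card_ge
  · rw [zpowers_le]
    exact pow_mem (mem_zpowers u) 3
  · rw [Nat.card_zpowers, Nat.card_zpowers, Nat.Coprime.orderOf_pow (by rw [orderOf_u]; norm_num)]

/-- conjugation by `n0` on the powers of `u` -/
theorem n0_pow (j : ℕ) : n0 * u ^ j * n0⁻¹ = u ^ (3 * j) := by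
  rw [pow_mul, ← n0_u]
  exact (conj_pow).symm

theorem conj_u (j : ℕ) (hj : ¬ 7 ∣ j) : IsConj u (u ^ j) := by
  have h7 : u ^ 7 = 1 := by rw [← orderOf_u, pow_orderOf_eq_one]
  have hstep : ∀ k : ℕ, IsConj (u ^ k) (u ^ (3 * k)) := fun k => isConj_iff.2 ⟨n0, n0_pow k⟩
  have h3 : IsConj u (u ^ 3) := by simpa using hstep 1
  have h9 : IsConj u (u ^ 9) := h3.trans (hstep 3)
  have h27 : IsConj u (u ^ 27) := h9.trans (hstep 9)
  have h81 : IsConj u (u ^ 81) := h27.trans (hstep 27)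
  have h243 : IsConj u (u ^ 243) := h81.trans (hstep 81)
  have hmod : ∀ a b : ℕ, a % 7 = b % 7 → u ^ a = u ^ b := by
    intro a b h
    rw [pow_eq_pow_iff_modEq, orderOf_u]
    exact h
  have h1 : j % 7 = 1 ∨ j % 7 = 2 ∨ j % 7 = 3 ∨ j % 7 = 4 ∨ j % 7 = 5 ∨ j % 7 = 6 := by omega
  rcases h1 with h | h | h | h | h | h
  · rw [hmod j 1 h, pow_one]
  · rw [hmod j 9 h]; exact h9
  · rw [hmod j 3 h]; exact h3
  · rw [hmod j 81 h]; exact h81
  · rw [hmod j 243 h]; exact h243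
  · rw [hmod j 27 h]; exact h27

theorem conj_P {x : Γ} (hx : x ∈ (P : Subgroup Γ)) (hx1 : x ≠ 1) : IsConj u x := by
  rw [P_eq, ← mem_powers_iff_mem_zpowers] at hx
  obtain ⟨j, hj⟩ := hx
  have hj' : u ^ j = x := hj
  subst hj'
  apply conj_u
  rintro ⟨k, rfl⟩
  apply hx1
  rw [pow_mul, ← orderOf_u, pow_orderOf_eq_one, one_pow]

theorem card_cent_congr {x y : Γ} (h : IsConj x y) :
    Nat.card (centralizer ({x} : Set Γ)) = Nat.card (centralizer ({y} : Set Γ)) := by
  have h1 := Cfsg.Agent.Blocks.Basic.index_centralizer_isConj h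
  have h2 := (centralizer ({x} : Set Γ)).card_mul_index
  have h3 := (centralizer ({y} : Set Γ)).card_mul_index
  rw [h1] at h2
  have h4 : (centralizer ({y} : Set Γ)).index ≠ 0 := Subgroup.index_ne_zero_of_finite
  exact Nat.eq_of_mul_eq_mul_right (Nat.pos_of_ne_zero h4) (h2.trans h3.symm)

theorem card_cent_P {x : Γ} (hx : x ∈ (P : Subgroup Γ)) (hx1 : x ≠ 1) :
    Nat.card (centralizer ({x} : Set Γ)) = 420 := by
  rw [← card_cent_congr (conj_P hx hx1)]
  exact card_X

theorem u_memP : u ∈ (P : Subgroup Γ) := by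
  rw [P_eq]
  exact mem_zpowers u

/-- the action of `n0` on `P` -/
noncomputable def r0 : MulAut (P : Subgroup Γ) := cP n0_mem

theorem r0_pow (k : ℕ) : (((r0 ^ k) ⟨u, u_memP⟩ : (P : Subgroup Γ)) : Γ) = u ^ (3 ^ k) := by
  induction k with
  | zero => simp
  | succ k ih =>
    rw [pow_succ', MulAut.mul_apply]
    show n0 * (((r0 ^ k) ⟨u, u_memP⟩ : (P : Subgroup Γ)) : Γ) * n0⁻¹ = _
    rw [ih, n0_pow, pow_succ']

theorem orderOf_r0 : orderOf r0 = 6 := by
  have hcyc : IsCyclic (P : Subgroup Γ) := isCyclic_of_prime_card (p := 7) hP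
  have h1 : Nat.card (MulAut (P : Subgroup Γ)) = 6 := by
    rw [IsCyclic.card_mulAut]
    have : Nat.card (P : Subgroup Γ) = 7 := hP
    rw [this]
    decide
  have h2 : orderOf r0 ∣ 6 := by
    rw [← h1]
    exact orderOf_dvd_natCard _
  have key : ∀ k : ℕ, r0 ^ k = 1 → 3 ^ k % 7 = 1 := by
    intro k hk
    have h3 := r0_pow k
    rw [hk] at h3
    have h4 : u ^ 1 = u ^ (3 ^ k) := by rw [pow_one]; exact h3
    rw [pow_eq_pow_iff_modEq, orderOf_u] at h4
    exact (show 1 % 7 = 3 ^ k % 7 from h4).symm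
  have h3 : ¬ orderOf r0 ∣ 2 := fun h => absurd (key 2 (orderOf_dvd_iff_pow_eq_one.1 h)) (by norm_num)
  have h4 : ¬ orderOf r0 ∣ 3 := fun h => absurd (key 3 (orderOf_dvd_iff_pow_eq_one.1 h)) (by norm_num)
  have h5 : orderOf r0 ≤ 6 := Nat.le_of_dvd (by norm_num) h2
  have h6 : 0 < orderOf r0 := Nat.pos_of_dvd_of_pos h2 (by norm_num)
  interval_cases h : orderOf r0 <;> omega

theorem idx : (centralizer ((P : Subgroup Γ) : Set Γ)).relIndex (normalizer ((P : Subgroup Γ) : Set Γ)) = 6 := by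
  have h1 := Cfsg.Agent.SmallSimple.TheoremCCor.card_stabAct_of_stable hK hP
    (Cfsg.Agent.Characters.Core.isIrr_one (G := K)) (fun n hn => Cfsg.Agent.SmallSimple.TheoremCCor.tw_one_char hK hn)
  rw [← h1]
  have hcyc : IsCyclic (P : Subgroup Γ) := isCyclic_of_prime_card (p := 7) hP
  have h2 : Nat.card (MulAut (P : Subgroup Γ)) = 6 := by
    rw [IsCyclic.card_mulAut]
    have : Nat.card (P : Subgroup Γ) = 7 := hP
    rw [this]
    decide
  have hmem : r0 ∈ stabAct hK (1 : K → ℂ) :=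
    ⟨n0, n0_mem, fun x => rfl, Cfsg.Agent.SmallSimple.TheoremCCor.tw_one_char hK n0_mem⟩
  apply Nat.dvd_antisymm
  · rw [← h2]
    exact Subgroup.card_subgroup_dvd_card _
  · rw [← orderOf_r0]
    exact Subgroup.orderOf_dvd_natCard _ hmem

theorem swap : ∃ k : K, n0 * (ρ z5 : K) * n0⁻¹ = ((k * (ρ z5) ^ 2 * k⁻¹ : K) : Γ) := by
  refine ⟨1, ?_⟩
  rw [one_mul, inv_one, mul_one, Subgroup.coe_pow, ρ_coe]
  show f gg * f (e5 z5) * (f gg)⁻¹ = (f (e5 z5)) ^ 2
  rw [← map_inv, ← map_mul, ← map_mul, gg_e5, map_pow]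

theorem loc : Loc P K ρ n0 := ⟨hK, hP, idx, n0_mem, swap⟩

/-! ### the involution -/

/-- the involution -/
noncomputable def t : Γ := w t2

theorem orderOf_t : orderOf t = 2 := by rw [t, orderOf_injective w w_inj, Tab.orderOf_t2]

theorem t_sq : t ^ 2 = 1 := by rw [← orderOf_t, pow_orderOf_eq_one]

theorem t_ne : t ≠ 1 := by
  intro h
  have := orderOf_t
  rw [h, orderOf_one] at this
  omega

theorem comm_ut : Commute u t := (mem_centralizer_singleton_iff.1 (g0 t2).2).symm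

theorem card_cent_t : Nat.card (centralizer ({t} : Set Γ)) = 177408000 := by
  have h7 : 7 ∣ Nat.card (centralizer ({t} : Set Γ)) := by
    have h1 : u ∈ centralizer ({t} : Set Γ) := mem_centralizer_singleton_iff.2 comm_ut.eq
    rw [← orderOf_u, ← Subgroup.orderOf_mk u h1]
    exact orderOf_dvd_natCard _
  rcases Cfsg.Agent.SigZeroHN.card_centralizer_cases orderOf_t with ⟨-, h⟩ | ⟨-, h⟩
  · exact h
  · rw [h] at h7
    exact absurd h7 (by norm_num)

theorem index_t : (centralizer ({t} : Set Γ)).index = 1539000 := by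
  have h := (centralizer ({t} : Set Γ)).card_mul_index
  rw [card_cent_t, card_HN] at h
  omega

theorem index_u : (centralizer ({u} : Set Γ)).index = 650073600000 := by
  have h := (centralizer ({u} : Set Γ)).card_mul_index
  rw [show Nat.card (centralizer ({u} : Set Γ)) = 420 from card_X, card_HN] at h
  omega

/-- the element of order 5 -/
noncomputable def z : Γ := w z5

theorem orderOf_z : orderOf z = 5 := by rw [z, orderOf_injective w w_inj, Tab.orderOf_z5]

theorem comm_P {x : Γ} (hx : x ∈ (P : Subgroup Γ)) (σ : A5) : Commute x (w σ) := by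
  rw [P_eq] at hx
  obtain ⟨m, rfl⟩ := hx
  exact (show Commute u (w σ) from (mem_centralizer_singleton_iff.1 (g0 σ).2).symm).zpow_left m

theorem orderOf_P {x : Γ} (hx : x ∈ (P : Subgroup Γ)) (hx1 : x ≠ 1) : orderOf x = 7 :=
  Blocks.CyclicOrtho.orderOf_eq P hP hx hx1

theorem orderOf_xz {x : Γ} (hx : x ∈ (P : Subgroup Γ)) (hx1 : x ≠ 1) : orderOf (x * z) = 35 := by
  show orderOf (x * w z5) = 35
  have h5 : orderOf (w z5) = 5 := orderOf_z
  rw [(comm_P hx z5).orderOf_mul_eq_mul_orderOf_of_coprime (by rw [orderOf_P hx hx1, h5]; norm_num), orderOf_P hx hx1, h5]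

/-! ### the residues of the degrees modulo 11 -/

instance simple : IsSimpleGroup Γ := Cfsg.Agent.S1701.result.1

theorem notComm : ¬ IsMulCommutative Γ := by
  intro h
  exact Cfsg.Agent.H315.PwHN.notComm fun a b => h.is_comm.comm a b

open Cfsg.Agent.H653.Sieve in
theorem mod_eleven [Fintype (IrrCharacter Γ)] (χ : IrrCharacter Γ) :
    charDegree (χ : Γ → ℂ) % 11 = 0 ∨ charDegree (χ : Γ → ℂ) % 11 = 1 ∨ charDegree (χ : Γ → ℂ) % 11 = 10 := by
  have : Fact (Nat.Prime 11) := ⟨by norm_num⟩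
  obtain ⟨y, hy⟩ := Cfsg.Agent.H315.PwHN.exists11
  obtain ⟨Q, W, -, -, -, hcol⟩ := exists_col notComm (N := 273030912000000) card_HN hy (k := 2)
    (Cfsg.Agent.H315.PwHN.card_eleven hy) 10 1 [(0, 0), (1, 1), (10, -1)] 0 false (by decide +kernel)
  have h := hcol.1 χ
  simp only [List.mem_cons, Prod.mk.injEq, List.not_mem_nil, or_false] at h
  rcases h with h | h | h
  · exact Or.inl h.1
  · exact Or.inr (Or.inl h.1)
  · exact Or.inr (Or.inr h.1)

end Cfsg.Agent.H456.LD.HN.Grp
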