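import Cfsg.Agent.H456.LD.HN.Blk

/-!
# The character of degree 3200000 of the Harada–Norton group (helper456)
-/

set_option autoImplicit false
set_option maxRecDepth 100000

open scoped ComplexConjugate
open Cfsg Subgroup

namespace Cfsg.Agent.H456.LD.HN.Kill

open Cfsg.Agent.Characters.Core
open Cfsg.Agent.H173.RS.HNRow (u orderOf_u card_HN)
open Cfsg.Agent.H456.LD.HN.Tab (A5 t2 z5)
open Cfsg.Agent.H456.LD.HN.Types Cfsg.Agent.H456.LD.HN.Grp Cfsg.Agent.H456.LD.HN.Val Cfsg.Agent.H456.LD.HN.Enum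
open Cfsg.Agent.H456.LD.HN.Blk

local notation "Γ" => Cfsg.Spor.HN

open scoped Classical in
/-- The second configuration is impossible. -/
theorem no_second {X1 X2 ψ : IrrCharacter Γ} (h12 : X1 ≠ X2) (d1 : dd X1 = 5225000) (d2 : dd X2 = 5225000)
    (d3 : dd ψ = 5878125) (a1 : aa X1 = -6600) (a2 : aa X2 = -6600) (a3 : aa ψ = -4675) (v1 : vv X1 = -3)
    (v2 : vv X2 = -3) (v3 : vv ψ = 1) : False := by
  have := Fintype.ofFinite (IrrCharacter Γ)
  obtain ⟨NE, ε, d, hcard, hNE, hd, hrel⟩ := (spec X1).2.2.2.2 (Or.inr v1)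
  rw [v1] at hd
  have hd1 : d = 1 := by omega
  subst hd1
  -- the members of `NE`
  have hv : ∀ χ ∈ NE, vv χ = 6 ∨ vv χ = -6 := by
    intro χ hχ
    obtain ⟨h1, h2⟩ := hNE χ hχ
    have h3 := (spec χ).2.1
    rw [h2] at h3
    have h4 : (36 : ℤ) * ε χ = 6 * vv χ := by exact_mod_cast h3
    omega
  let e : IrrCharacter Γ → ℤ := fun χ => if χ ∈ NE then ε χ else 0
  have he : ∀ χ, vv χ ≠ 6 → vv χ ≠ -6 → e χ = 0 := by
    intro χ h1 h2
    simp only [e]
    rw [if_neg]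
    intro h3
    rcases hv χ h3 with h4 | h4
    · exact h1 h4
    · exact h2 h4
  have e1 : e X1 = 0 := he _ (by omega) (by omega)
  have e2 : e X2 = 0 := he _ (by omega) (by omega)
  have e3 : e ψ = 0 := he _ (by omega) (by omega)
  have hsum : ∀ c : IrrCharacter Γ → ℤ, ∑ χ, e χ * c χ = ∑ χ ∈ NE, ε χ * c χ := by
    intro c
    rw [← Finset.sum_subset (Finset.subset_univ NE)]
    · refine Finset.sum_congr rfl fun χ hχ => ?_
      simp only [e]
      rw [if_pos hχ]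
    · intro χ _ hχ
      simp only [e]
      rw [if_neg hχ, zero_mul]
  have s1 : ∑ χ, e χ * (dd χ : ℤ) = 5225000 := by
    have h1 := hrel 1 (by rw [orderOf_one]; norm_num)
    rw [dd_eq, d1, Finset.sum_congr rfl (fun χ _ => by rw [dd_eq])] at h1
    rw [hsum]
    have h2 : ((∑ χ ∈ NE, ε χ * (dd χ : ℤ) : ℤ) : ℂ) = ((5225000 : ℤ) : ℂ) := by
      push_cast
      rw [h1]
      norm_num
    exact_mod_cast h2
  have s2 : ∑ χ, e χ * aa χ = -6600 := by
    have h1 := hrel t (by rw [orderOf_t]; norm_num)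
    rw [aa_eq, a1, Finset.sum_congr rfl (fun χ _ => by rw [aa_eq])] at h1
    rw [hsum]
    have h2 : ((∑ χ ∈ NE, ε χ * aa χ : ℤ) : ℂ) = ((-6600 : ℤ) : ℂ) := by
      push_cast
      rw [h1]
      norm_num
    exact_mod_cast h2
  have s3 : ∑ χ, e χ * e χ = 3 := by
    rw [hsum]
    rw [Finset.sum_congr rfl (g := fun _ => (1 : ℤ))]
    · rw [Finset.sum_const, hcard]; norm_num
    · intro χ hχ
      simp only [e]
      rw [if_pos hχ]
      rcases (hNE χ hχ).1 with h | h <;> rw [h] <;> norm_num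
  have hmain : ∑ χ, (3 * (dd χ : ℤ) - 6000 * aa χ - 18425000 * e χ) ^ 2 =
      9 * 273030912000000 + 36000000 * 177408000 + 339480625000000 * 3 - 36000 * 0 - 110550000 * 5225000 +
        221100000000 * (-6600) := by
    have hexp : ∑ χ, (3 * (dd χ : ℤ) - 6000 * aa χ - 18425000 * e χ) ^ 2 =
        9 * (∑ χ, (dd χ : ℤ) ^ 2) + 36000000 * (∑ χ, aa χ ^ 2) + 339480625000000 * (∑ χ, e χ * e χ) -
          36000 * (∑ χ, (dd χ : ℤ) * aa χ) - 110550000 * (∑ χ, e χ * (dd χ : ℤ)) +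
            221100000000 * (∑ χ, e χ * aa χ) := by
      rw [Finset.mul_sum, Finset.mul_sum, Finset.mul_sum, Finset.mul_sum, Finset.mul_sum, Finset.mul_sum,
        ← Finset.sum_add_distrib, ← Finset.sum_add_distrib, ← Finset.sum_sub_distrib, ← Finset.sum_sub_distrib,
        ← Finset.sum_add_distrib]
      refine Finset.sum_congr rfl fun χ _ => ?_
      ring
    rw [hexp, sum_sq_one, sum_sq_t, s3, sum_mul_t, s1, s2]
  have h13 : ψ ≠ X1 := by rintro rfl; omega
  have h23 : ψ ≠ X2 := by rintro rfl; omega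
  have hle : ∑ χ ∈ ({X1, X2, ψ} : Finset (IrrCharacter Γ)), (3 * (dd χ : ℤ) - 6000 * aa χ - 18425000 * e χ) ^ 2 ≤
      ∑ χ, (3 * (dd χ : ℤ) - 6000 * aa χ - 18425000 * e χ) ^ 2 :=
    Finset.sum_le_sum_of_subset_of_nonneg (Finset.subset_univ _) (fun χ _ _ => sq_nonneg _)
  rw [hmain, Finset.sum_insert (by simp [h12, h13.symm]), Finset.sum_pair h23.symm, d1, d2, d3, a1, a2, a3, e1, e2, e3] at hle
  norm_num at hle

/-- The types of the candidates. -/
theorem vv_of {χ : IrrCharacter Γ} (h : (((nn χ : ℕ) : ℤ), bb χ, ww χ) ∈ cl) :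
    (nn χ = 1672 → vv χ = -3) ∧ (nn χ = 1881 → vv χ = 1) := by
  have h1 := (spec χ).1
  simp only [tyList, List.mem_cons, Prod.mk.injEq, List.not_mem_nil, or_false] at h1
  have key : ∀ r ∈ cl, (r.1 = 1672 → r.2.1 = 1 ∧ r.2.2 = -1) ∧ (r.1 = 1881 → r.2.1 = 1 ∧ r.2.2 = 2) := by decide +kernel
  have h2 := key _ h
  constructor
  · intro h3
    have h4 := h2.1 (by simp [h3])
    simp only at h4
    omega
  · intro h3
    have h4 := h2.2 (by simp [h3])
    simp only at h4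
    omega

set_option maxHeartbeats 4000000 in
open scoped Classical in
/-- **Exactly one character of the block has degree 3200000.** -/
theorem unique {M : Ideal AlgInt} {χ0 : IrrCharacter Γ} (h : Hyp M χ0) :
    ∃ χ ∈ blockOf M (χ0 : Γ → ℂ), dd χ = 3200000 ∧ ∀ ψ ∈ blockOf M (χ0 : Γ → ℂ), dd ψ = 3200000 → ψ = χ := by
  have := Fintype.ofFinite (IrrCharacter Γ)
  have hprime := Cfsg.Agent.Blocks.Local.isPrime_of_isPModular h.hM
  set Bf : Finset (IrrCharacter Γ) := Finset.univ.filter (· ∈ blockOf M (χ0 : Γ → ℂ)) with hBf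
  have hmemB : ∀ χ, χ ∈ Bf ↔ χ ∈ blockOf M (χ0 : Γ → ℂ) := fun χ => by simp [hBf]
  have h0B : χ0 ∈ Bf := (hmemB χ0).2 (Cfsg.Agent.Blocks.Basic.mem_blockOf_self χ0)
  have hcardB : Bf.card ≤ 5 := by
    have h1 := card_le h
    have h2 : Nat.card (blockOf M (χ0 : Γ → ℂ)) = Bf.card := by
      rw [Nat.card_eq_card_finite_toFinset (Set.toFinite _)]
      congr 1
      ext χ
      rw [Set.Finite.mem_toFinset, hmemB]
    rwa [h2] at h1
  set Live : Finset (IrrCharacter Γ) := (Bf.erase χ0).filter (fun χ => ¬ (vv χ = 5 ∨ vv χ = -5)) with hLive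
  have hLB : ∀ χ ∈ Live, χ ∈ blockOf M (χ0 : Γ → ℂ) ∧ ¬ (vv χ = 5 ∨ vv χ = -5) ∧ χ ≠ χ0 := by
    intro χ hχ
    rw [hLive, Finset.mem_filter, Finset.mem_erase, hmemB] at hχ
    exact ⟨hχ.1.2, hχ.2, hχ.1.1⟩
  have hLc : Live.card ≤ 4 := by
    have h1 : Live.card ≤ (Bf.erase χ0).card := Finset.card_filter_le _ _
    rw [Finset.card_erase_of_mem h0B] at h1
    omega
  have hww0 : ∀ χ : IrrCharacter Γ, (vv χ = 5 ∨ vv χ = -5) → ww χ = 0 := by
    intro χ hχ
    have h1 := (spec χ).1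
    simp only [tyList, List.mem_cons, Prod.mk.injEq, List.not_mem_nil, or_false] at h1
    omega
  obtain ⟨v0, b0, w0⟩ := ty0 h
  have hn0 : nn χ0 = 209 := by
    unfold nn
    rw [h.deg]
  have hsplit : ∀ c : IrrCharacter Γ → ℤ, ∑ χ ∈ Bf, ww χ * c χ = -2 * c χ0 + ∑ χ ∈ Live, ww χ * c χ := by
    intro c
    rw [← Finset.add_sum_erase _ _ h0B, w0]
    congr 1
    rw [hLive, Finset.sum_filter_of_ne]
    intro χ _ hne hv
    exact hne (by rw [hww0 χ hv, zero_mul])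
  have o1 := orth h (s := 1) (by rw [orderOf_one]; norm_num) (c := fun χ => (dd χ : ℤ)) (fun χ => by
    rw [dd_eq]; push_cast; rfl)
  have o2 := orth h (s := t) (by rw [orderOf_t]; norm_num) (c := aa) aa_eq
  rw [hsplit] at o1 o2
  have o1' : 209 * (-2) + ∑ χ ∈ Live, ((nn χ : ℕ) : ℤ) * ww χ = 0 := by
    have h1 : ∑ χ ∈ Live, ww χ * (dd χ : ℤ) = 3125 * ∑ χ ∈ Live, ((nn χ : ℕ) : ℤ) * ww χ := by
      rw [Finset.mul_sum]
      refine Finset.sum_congr rfl fun χ hχ => ?_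
      rw [dd_nn h (hLB χ hχ).1]
      push_cast
      ring
    rw [h1, h.deg] at o1
    push_cast at o1
    omega
  obtain ⟨c, hc, hAs⟩ := mem_vals h
  have hA0 : aa χ0 ∈ As 209 0 c := by
    have := hAs χ0 ((hmemB χ0).1 h0B) (by omega)
    rw [hn0, b0] at this
    exact_mod_cast this
  set f : IrrCharacter Γ → (ℤ × ℤ × ℤ) × ℤ := fun χ => ((((nn χ : ℕ) : ℤ), bb χ, ww χ), aa χ) with hf
  have hsumL : ∀ g : (ℤ × ℤ × ℤ) × ℤ → ℤ, ((Live.toList.map f).map g).sum = ∑ χ ∈ Live, g (f χ) := by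
    intro g
    rw [List.map_map, Finset.sum_map_toList]
    rfl
  have hcountL : ∀ q : (ℤ × ℤ × ℤ) × ℤ → Bool, (Live.toList.map f).countP q = (Live.filter (fun χ => q (f χ) = true)).card := by
    intro q
    rw [List.countP_map]
    have h1 : List.countP (q ∘ f) Live.toList = Multiset.countP (fun χ => q (f χ) = true) (Live.toList : Multiset (IrrCharacter Γ)) := by
      rw [Multiset.coe_countP]
      refine List.countP_congr fun χ _ => ?_
      simp
    rw [h1, Finset.coe_toList, Multiset.countP_eq_card_filter]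
    rfl
  have hsq : aa χ0 ^ 2 + ∑ χ ∈ Live, aa χ ^ 2 ≤ 177408000 := by
    have h1 : χ0 ∉ Live := fun hh => (hLB χ0 hh).2.2 rfl
    have h2 : aa χ0 ^ 2 + ∑ χ ∈ Live, aa χ ^ 2 = ∑ χ ∈ insert χ0 Live, aa χ ^ 2 := (Finset.sum_insert (f := fun χ => aa χ ^ 2) h1).symm
    rw [h2, ← sum_sq_t]
    exact Finset.sum_le_sum_of_subset_of_nonneg (Finset.subset_univ _) (fun χ _ _ => sq_nonneg _)
  have hmain := enum c hc hA0 (Live.toList.map f) (by rw [List.length_map, Finset.length_toList]; exact hLc)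
    (by
      intro r hr
      obtain ⟨χ, hχ, rfl⟩ := List.mem_map.1 hr
      rw [Finset.mem_toList] at hχ
      exact ⟨mem_cand h (hLB χ hχ).1 (hLB χ hχ).2.1, hAs χ (hLB χ hχ).1 (hLB χ hχ).2.1⟩)
    (by rw [hsumL]; exact o1')
    (by
      rw [hsumL]
      have h1 : ∑ χ ∈ Live, (f χ).2 * (f χ).1.2.2 = ∑ χ ∈ Live, ww χ * aa χ :=
        Finset.sum_congr rfl fun χ _ => mul_comm _ _
      rw [h1]
      linarith)
    (by rw [hsumL]; exact hsq)
  rw [hcountL, hcountL, hcountL] at hmain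
  rcases hmain with hmain | ⟨hm1, hm2⟩
  · obtain ⟨χ, hχ⟩ := Finset.card_eq_one.1 hmain
    have hχm : χ ∈ Live.filter (fun χ => decide ((f χ).1.1 = 1024) = true) := by
      rw [hχ]; exact Finset.mem_singleton_self χ
    rw [Finset.mem_filter, decide_eq_true_eq] at hχm
    have hn : nn χ = 1024 := by
      have : ((nn χ : ℕ) : ℤ) = 1024 := hχm.2
      exact_mod_cast this
    refine ⟨χ, (hLB χ hχm.1).1, by rw [dd_nn h (hLB χ hχm.1).1, hn], ?_⟩
    intro ψ hψ hdψ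
    have hnψ : nn ψ = 1024 := by unfold nn; rw [hdψ]
    have hψ5 : ¬ (vv ψ = 5 ∨ vv ψ = -5) := by
      intro h5
      have h6 := dvd_vv ψ
      rw [hdψ] at h6
      push_cast at h6
      obtain ⟨q, h7, h8⟩ := cong_u h hψ
      rw [hdψ] at h7
      push_cast at h7
      omega
    have hψL : ψ ∈ Live.filter (fun χ => decide ((f χ).1.1 = 1024) = true) := by
      rw [Finset.mem_filter, decide_eq_true_eq, hLive, Finset.mem_filter, Finset.mem_erase, hmemB]
      refine ⟨⟨⟨?_, hψ⟩, hψ5⟩, ?_⟩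
      · rintro rfl
        rw [h.deg] at hdψ
        omega
      · show ((nn ψ : ℕ) : ℤ) = 1024
        rw [hnψ]
        norm_num
    rw [hχ, Finset.mem_singleton] at hψL
    exact hψL
  · exfalso
    obtain ⟨X1, X2, h12, hX⟩ := Finset.card_eq_two.1 hm1
    obtain ⟨ψ, hψ⟩ := Finset.card_eq_one.1 hm2
    have m1 : X1 ∈ Live.filter (fun χ => decide ((f χ).1.1 = 1672 ∧ (f χ).2 = -6600) = true) := by rw [hX]; simp
    have m2 : X2 ∈ Live.filter (fun χ => decide ((f χ).1.1 = 1672 ∧ (f χ).2 = -6600) = true) := by rw [hX]; simp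
    have m3 : ψ ∈ Live.filter (fun χ => decide ((f χ).1.1 = 1881 ∧ (f χ).2 = -4675) = true) := by rw [hψ]; simp
    rw [Finset.mem_filter, decide_eq_true_eq] at m1 m2 m3
    have n1 : nn X1 = 1672 := by
      have : ((nn X1 : ℕ) : ℤ) = 1672 := m1.2.1
      exact_mod_cast this
    have n2 : nn X2 = 1672 := by
      have : ((nn X2 : ℕ) : ℤ) = 1672 := m2.2.1
      exact_mod_cast this
    have n3 : nn ψ = 1881 := by
      have : ((nn ψ : ℕ) : ℤ) = 1881 := m3.2.1
      exact_mod_cast this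
    have c1 := vv_of (mem_cand h (hLB X1 m1.1).1 (hLB X1 m1.1).2.1)
    have c2 := vv_of (mem_cand h (hLB X2 m2.1).1 (hLB X2 m2.1).2.1)
    have c3 := vv_of (mem_cand h (hLB ψ m3.1).1 (hLB ψ m3.1).2.1)
    exact no_second h12 (by rw [dd_nn h (hLB X1 m1.1).1, n1]) (by rw [dd_nn h (hLB X2 m2.1).1, n2])
      (by rw [dd_nn h (hLB ψ m3.1).1, n3]) m1.2.2 m2.2.2 m3.2.2 (c1.1 n1) (c2.1 n2) (c3.2 n3)

end Cfsg.Agent.H456.LD.HN.Kill
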