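import Cfsg.Agent.H348.PPD.AltFive
import Cfsg.Agent.H846.E72.AFive
import Cfsg.Agent.SporadicA.M24.KBlock
import Cfsg.Agent.SmallSimple.InvolColumn
import Cfsg.Agent.S0145

/-!
# The characters of `A₅` (helper456)

`tab` : the values of the irreducible characters of `A₅` at the involutions and the elements of order 5.
-/

set_option autoImplicit false

open scoped ComplexConjugate
open Cfsg Subgroup Cfsg.Agent.Characters.Core

namespace Cfsg.Agent.H456.LD.HN.Tab

universe u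

/-- the alternating group -/
abbrev A5 := alternatingGroup (Fin 5)

/-- an involution -/
def t2 : A5 := ⟨Equiv.swap 0 1 * Equiv.swap 2 3, by rw [Equiv.Perm.mem_alternatingGroup]; decide +kernel⟩

/-- an element of order 5 -/
def z5 : A5 := ⟨finRotate 5, by rw [Equiv.Perm.mem_alternatingGroup]; decide +kernel⟩

theorem t2_sq : t2 ^ 2 = 1 := by decide +kernel
theorem t2_ne : t2 ≠ 1 := by decide +kernel
theorem z5_pow : z5 ^ 5 = 1 := by decide +kernel
theorem z5_ne : z5 ≠ 1 := by decide +kernel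
theorem z5_not_conj : ∀ g : A5, g * z5 * g⁻¹ ≠ z5 ^ 2 := by decide +kernel
theorem orderOf_z5 : orderOf z5 = 5 :=
  have : Fact (Nat.Prime 5) := ⟨by norm_num⟩
  orderOf_eq_prime z5_pow z5_ne
theorem orderOf_t2 : orderOf t2 = 2 :=
  have : Fact (Nat.Prime 2) := ⟨by norm_num⟩
  orderOf_eq_prime t2_sq t2_ne

theorem card_A5 : Nat.card A5 = 60 := by rw [Nat.card_eq_fintype_card]; decide +kernel

theorem squares3 : ∀ a ∈ Finset.range 7, ∀ b ∈ Finset.range 7, ∀ c ∈ Finset.range 7, 2 ≤ a → 2 ≤ b → 2 ≤ c →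
    a ^ 2 + b ^ 2 + c ^ 2 = 43 → 100 * a + 10 * b + c ∈ [533, 353, 335] := by
  decide +kernel

instance simpleA5 : IsSimpleGroup A5 := alternatingGroup.isSimpleGroup_five

theorem comm_top : commutator A5 = ⊤ := by
  rcases (inferInstance : (commutator A5).Normal).eq_bot_or_eq_top with h | h
  · exfalso
    have h1 := ((_root_.commutator_eq_bot_iff_center_eq_top A5).1 h)
    have h2 : t2 ∈ center A5 := by rw [h1]; exact mem_top _
    have h3 := mem_center_iff.1 h2 z5
    revert h3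
    decide +kernel
  · exact h

/-- the principal character -/
def one' : IrrCharacter A5 := ⟨1, isIrr_one⟩

/-- the character of degree 4 -/
noncomputable def four : IrrCharacter A5 := ⟨_, H846.E72.AFive.irr⟩

theorem four_one : (four : A5 → ℂ) 1 = 4 := by
  show H846.E72.AFive.chi 1 = 4
  rw [H846.E72.AFive.chi_eq, show H846.E72.AFive.fx 1 = 5 by decide +kernel]
  norm_num

theorem four_t : (four : A5 → ℂ) t2 = 0 := by
  show H846.E72.AFive.chi t2 = 0
  rw [H846.E72.AFive.chi_eq, show H846.E72.AFive.fx t2 = 1 by decide +kernel]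
  norm_num

theorem four_z : (four : A5 → ℂ) z5 = -1 := by
  show H846.E72.AFive.chi z5 = -1
  rw [H846.E72.AFive.chi_eq, show H846.E72.AFive.fx z5 = 0 by decide +kernel]
  norm_num

theorem cent_t : Nat.card (centralizer ({t2} : Set A5)) = 4 := by
  have h2 : Nat.card (centralizer ({t2} : Set A5)) = Nat.card {g : A5 // g * t2 = t2 * g} :=
    Nat.card_congr (Equiv.subtypeEquivRight fun g => mem_centralizer_singleton_iff)
  rw [h2, Nat.card_eq_fintype_card]
  decide +kernel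

theorem lt_seven {a : ℕ} (h : a ^ 2 ≤ 43) : a < 7 := by
  by_contra h1
  have h2 : 7 ^ 2 ≤ a ^ 2 := Nat.pow_le_pow_left (not_lt.1 h1) 2
  omega

theorem key {a b c : ℤ} (h : a ^ 2 + b ^ 2 + c ^ 2 = 3) (h1 : (4 : ℤ) ∣ 5 - a) (h2 : (4 : ℤ) ∣ 3 - b) (h3 : (4 : ℤ) ∣ 3 - c) :
    a = 1 ∧ b = -1 ∧ c = -1 := by
  have ha : -1 ≤ a ∧ a ≤ 1 := by constructor <;> nlinarith [sq_nonneg b, sq_nonneg c]
  have hb : -1 ≤ b ∧ b ≤ 1 := by constructor <;> nlinarith [sq_nonneg a, sq_nonneg c]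
  have hc : -1 ≤ c ∧ c ≤ 1 := by constructor <;> nlinarith [sq_nonneg a, sq_nonneg b]
  omega

set_option maxHeartbeats 2000000 in
/-- **The irreducible characters of `A₅`.** -/
theorem tab : ∃ a b c : IrrCharacter A5, (∀ χ : IrrCharacter A5, χ = one' ∨ χ = four ∨ χ = a ∨ χ = b ∨ χ = c) ∧
    b ≠ c ∧ (a : A5 → ℂ) 1 = 5 ∧ (b : A5 → ℂ) 1 = 3 ∧ (c : A5 → ℂ) 1 = 3 ∧ (a : A5 → ℂ) t2 = 1 ∧ (a : A5 → ℂ) z5 = 0 ∧
    (b : A5 → ℂ) t2 + (c : A5 → ℂ) t2 = -2 ∧ (b : A5 → ℂ) z5 + (c : A5 → ℂ) z5 = 1 := by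
  classical
  have hnp : ¬ (Nat.card A5).Prime := by rw [card_A5]; norm_num
  have := finite_irr (G := A5)
  have := Fintype.ofFinite (IrrCharacter A5)
  have hirr : Fintype.card (IrrCharacter A5) = 5 := by
    rw [← Nat.card_eq_fintype_card, card_irr, Cfsg.Agent.H717.SmallClass.conj_alt_five]
  have hn : ∀ χ : IrrCharacter A5, ∃ n : ℕ, 0 < n ∧ (χ : A5 → ℂ) 1 = n := fun χ => by
    obtain ⟨n, h1, h2⟩ := isIrr_apply_one χ.2
    exact ⟨n, h1, h2⟩
  choose n hn0 hn1 using hn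
  have hsum : ∑ χ : IrrCharacter A5, n χ ^ 2 = 60 := by
    have h2 := Cfsg.Agent.H686.CharKit.sum_normSq (G := A5) 1
    have h3 : Nat.card (centralizer ({1} : Set A5)) = 60 := by
      rw [← card_A5]
      have : centralizer ({1} : Set A5) = ⊤ := by
        rw [eq_top_iff]
        intro g _
        rw [mem_centralizer_singleton_iff]
        simp
      rw [this, card_top]
    rw [h3] at h2
    have h4 : ∀ χ : IrrCharacter A5, Complex.normSq ((χ : A5 → ℂ) 1) = ((n χ ^ 2 : ℕ) : ℝ) := by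
      intro χ
      rw [hn1, Complex.normSq_natCast]
      push_cast
      ring
    rw [Finset.sum_congr rfl (fun χ _ => h4 χ), ← Nat.cast_sum] at h2
    exact_mod_cast h2
  have honeq : ∀ χ : IrrCharacter A5, n χ = 1 → χ = one' := by
    intro χ h
    apply Subtype.ext
    apply Cfsg.Agent.SmallSimple.SelfCentSum.eq_one_of_apply_one hnp χ.2
    rw [hn1, h, Nat.cast_one]
  have hn_one : n one' = 1 := by
    have h2 := hn1 one'
    have h3 : (one' : A5 → ℂ) 1 = 1 := rfl
    rw [h3] at h2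
    exact_mod_cast h2.symm
  have hn_four : n four = 4 := by
    have h2 := hn1 four
    rw [four_one] at h2
    exact_mod_cast h2.symm
  have h14 : one' ≠ four := by
    intro h
    rw [← h, hn_one] at hn_four
    omega
  have hge : ∀ χ : IrrCharacter A5, χ ≠ one' → 2 ≤ n χ := by
    intro χ h
    have := hn0 χ
    by_contra h2
    exact h (honeq χ (by omega))
  let T : Finset (IrrCharacter A5) := {one', four}
  have hT : T.card = 2 := Finset.card_pair h14
  have hTc : Tᶜ.card = 3 := by rw [Finset.card_compl, hirr, hT]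
  obtain ⟨x, y, w, hxy, hxw, hyw, hTab⟩ := Finset.card_eq_three.1 hTc
  have hsplit : ∀ f : IrrCharacter A5 → ℂ, ∑ χ, f χ = f one' + f four + (f x + f y + f w) := by
    intro f
    rw [← Finset.sum_add_sum_compl T f, hTab, Finset.sum_pair h14, Finset.sum_insert (by simp [hxy, hxw]),
      Finset.sum_pair hyw, add_assoc (f x)]
  have hsplitN : ∑ χ ∈ T, n χ ^ 2 + ∑ χ ∈ Tᶜ, n χ ^ 2 = 60 := by rw [Finset.sum_add_sum_compl, hsum]
  rw [Finset.sum_pair h14, hTab, Finset.sum_insert (by simp [hxy, hxw]), Finset.sum_pair hyw, hn_one, hn_four] at hsplitN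
  have hx1 : x ≠ one' := fun h => by
    have : x ∈ Tᶜ := by rw [hTab]; simp
    rw [h] at this; simp [T] at this
  have hy1 : y ≠ one' := fun h => by
    have : y ∈ Tᶜ := by rw [hTab]; simp
    rw [h] at this; simp [T] at this
  have hw1 : w ≠ one' := fun h => by
    have : w ∈ Tᶜ := by rw [hTab]; simp
    rw [h] at this; simp [T] at this
  have hall : ∀ χ : IrrCharacter A5, χ = one' ∨ χ = four ∨ χ = x ∨ χ = y ∨ χ = w := by
    intro χ
    by_cases h : χ ∈ T
    · simp only [T, Finset.mem_insert, Finset.mem_singleton] at h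
      tauto
    · have h2 : χ ∈ Tᶜ := Finset.mem_compl.2 h
      rw [hTab] at h2
      simp only [Finset.mem_insert, Finset.mem_singleton] at h2
      tauto
  -- the values
  have hcol : ∀ g : A5, g ≠ 1 → (1 : ℂ) + 4 * (four : A5 → ℂ) g +
      ((x : A5 → ℂ) 1 * (x : A5 → ℂ) g + (y : A5 → ℂ) 1 * (y : A5 → ℂ) g + (w : A5 → ℂ) 1 * (w : A5 → ℂ) g) = 0 := by
    intro g hg
    have h1 := Cfsg.Agent.S0145.sum_irr_mul_conj (G := A5) g 1
    rw [if_neg (fun h => hg (isConj_one_left.1 h))] at h1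
    have h2 := hsplit (fun χ : IrrCharacter A5 => (χ : A5 → ℂ) g * conj ((χ : A5 → ℂ) 1))
    rw [h1] at h2
    have h3 : ∀ χ : IrrCharacter A5, conj ((χ : A5 → ℂ) 1) = (χ : A5 → ℂ) 1 := by
      intro χ
      rw [hn1, Complex.conj_natCast]
    simp only [h3] at h2
    have h4 : (one' : A5 → ℂ) g = 1 := rfl
    have h5 : (one' : A5 → ℂ) 1 = 1 := rfl
    rw [h4, h5, four_one] at h2
    linear_combination -h2
  have hint : ∀ χ : IrrCharacter A5, χ ≠ one' → ∃ z : ℤ, (χ : A5 → ℂ) t2 = z ∧ (4 : ℤ) ∣ n χ - z := by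
    intro χ h
    obtain ⟨z, h1, -, h3⟩ := Cfsg.Agent.SmallSimple.InvolColumn.exists_int comm_top χ.2 (fun e => h (Subtype.ext e))
      t2_sq t2_ne
    rw [Cfsg.Agent.Blocks.Basic.charDegree_of_eq (hn1 χ)] at h3
    exact ⟨z, h1, h3⟩
  obtain ⟨zx, hzx, hzx4⟩ := hint x hx1
  obtain ⟨zy, hzy, hzy4⟩ := hint y hy1
  obtain ⟨zw, hzw, hzw4⟩ := hint w hw1
  have hsq : zx ^ 2 + zy ^ 2 + zw ^ 2 = 3 := by
    have h2 := Cfsg.Agent.H686.CharKit.sum_normSq (G := A5) t2
    rw [cent_t] at h2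
    have h3 := hsplit (fun χ : IrrCharacter A5 => ((Complex.normSq ((χ : A5 → ℂ) t2) : ℝ) : ℂ))
    rw [← Complex.ofReal_sum, h2] at h3
    have h4 : (one' : A5 → ℂ) t2 = 1 := rfl
    have h5 : ∀ z : ℤ, Complex.normSq (z : ℂ) = ((z ^ 2 : ℤ) : ℝ) := fun z => by
      rw [Complex.normSq_intCast]; push_cast; ring
    simp only [h4, four_t, hzx, hzy, hzw, h5, Complex.normSq_one, Complex.normSq_zero] at h3
    have h6 : ((4 : ℤ) : ℂ) = ((1 + 0 + (zx ^ 2 + zy ^ 2 + zw ^ 2) : ℤ) : ℂ) := by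
      push_cast
      push_cast at h3
      linear_combination h3
    have h7 : (4 : ℤ) = 1 + 0 + (zx ^ 2 + zy ^ 2 + zw ^ 2) := by exact_mod_cast h6
    omega
  have hrel := hcol t2 t2_ne
  rw [four_t, hn1, hn1, hn1, hzx, hzy, hzw] at hrel
  have hrelZ : 1 + (n x * zx + n y * zy + n w * zw) = 0 := by
    have : ((1 + (n x * zx + n y * zy + n w * zw) : ℤ) : ℂ) = ((0 : ℤ) : ℂ) := by
      push_cast
      linear_combination hrel
    exact_mod_cast this
  have hz := hcol z5 z5_ne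
  rw [four_z, hn1, hn1, hn1] at hz
  have h5z : ∀ χ : IrrCharacter A5, n χ = 5 → (χ : A5 → ℂ) z5 = 0 := by
    intro χ h
    refine Cfsg.Agent.SporadicA.M24.KBlock.eq_zero_of_defect_zero χ (r := 5) (n := 1) (by norm_num) ?_ ?_ ?_ ?_
    · rw [card_A5]; norm_num
    · rw [card_A5]; norm_num
    · rw [Cfsg.Agent.Blocks.Basic.charDegree_of_eq (hn1 χ), h]; norm_num
    · rw [orderOf_z5]
  have hx7 : n x < 7 := lt_seven (by omega)
  have hy7 : n y < 7 := lt_seven (by omega)
  have hw7 : n w < 7 := lt_seven (by omega)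
  have hsq3 := squares3 (n x) (Finset.mem_range.2 hx7) (n y) (Finset.mem_range.2 hy7) (n w)
    (Finset.mem_range.2 hw7) (hge x hx1) (hge y hy1) (hge w hw1) (by omega)
  have hcases : (n x = 5 ∧ n y = 3 ∧ n w = 3) ∨ (n x = 3 ∧ n y = 5 ∧ n w = 3) ∨ (n x = 3 ∧ n y = 3 ∧ n w = 5) := by
    simp only [List.mem_cons, List.not_mem_nil, or_false] at hsq3
    omega
  rcases hcases with h | h | h
  · obtain ⟨h1, h2, h3⟩ := h
    rw [h1] at hzx4
    rw [h2] at hzy4
    rw [h3] at hzw4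
    obtain ⟨k1, k2, k3⟩ := key (a := zx) (b := zy) (c := zw) hsq (by exact_mod_cast hzx4) (by exact_mod_cast hzy4) (by exact_mod_cast hzw4)
    refine ⟨x, y, w, hall, hyw, by rw [hn1, h1]; norm_num, by rw [hn1, h2]; norm_num, by rw [hn1, h3]; norm_num,
      by rw [hzx, k1]; norm_num, h5z x h1, by rw [hzy, hzw, k2, k3]; norm_num, ?_⟩
    rw [h1, h2, h3, h5z x h1] at hz
    push_cast at hz
    linear_combination hz / 3
  · obtain ⟨h1, h2, h3⟩ := h
    rw [h1] at hzx4
    rw [h2] at hzy4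
    rw [h3] at hzw4
    obtain ⟨k1, k2, k3⟩ := key (a := zy) (b := zx) (c := zw) (by linarith) (by exact_mod_cast hzy4) (by exact_mod_cast hzx4) (by exact_mod_cast hzw4)
    refine ⟨y, x, w, fun χ => by rcases hall χ with h | h | h | h | h <;> tauto, hxw, by rw [hn1, h2]; norm_num, by rw [hn1, h1]; norm_num, by rw [hn1, h3]; norm_num,
      by rw [hzy, k1]; norm_num, h5z y h2, by rw [hzx, hzw, k2, k3]; norm_num, ?_⟩
    rw [h1, h2, h3, h5z y h2] at hz
    push_cast at hz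
    linear_combination hz / 3
  · obtain ⟨h1, h2, h3⟩ := h
    rw [h1] at hzx4
    rw [h2] at hzy4
    rw [h3] at hzw4
    obtain ⟨k1, k2, k3⟩ := key (a := zw) (b := zx) (c := zy) (by linarith) (by exact_mod_cast hzw4) (by exact_mod_cast hzx4) (by exact_mod_cast hzy4)
    refine ⟨w, x, y, fun χ => by rcases hall χ with h | h | h | h | h <;> tauto, hxy, by rw [hn1, h3]; norm_num, by rw [hn1, h1]; norm_num, by rw [hn1, h2]; norm_num,
      by rw [hzw, k1]; norm_num, h5z w h3, by rw [hzx, hzy, k2, k3]; norm_num, ?_⟩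
    rw [h1, h2, h3, h5z w h3] at hz
    push_cast at hz
    linear_combination hz / 3

end Cfsg.Agent.H456.LD.HN.Tab
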