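import Cfsg.Agent.H456.LD.HN.Tab
import Cfsg.Agent.SmallSimple.TheoremCCor

/-!
# The 7-types of the irreducible characters (helper456)

`P` a Sylow 7-subgroup of order 7 with `C(P) = P × K`, `K ≅ A₅`, `|N(P) : C(P)| = 6`, an element of `N(P)` exchanges the
classes of elements of order 5 of `K`.  `T P χ k` is the sum of the `χ (x k)`, `x ∈ P`, `x ≠ 1`.
-/

set_option autoImplicit false
set_option linter.unusedSectionVars false

open scoped ComplexConjugate
open Cfsg Subgroup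

namespace Cfsg.Agent.H456.LD.HN.Types

open Cfsg.Agent.Characters.Core Cfsg.Agent.Characters.Linear
open Cfsg.Agent.SmallSimple.PrimeDual Cfsg.Agent.SmallSimple.ThetaSetup
open Cfsg.Agent.SmallSimple.ThetaOrtho Cfsg.Agent.SmallSimple.ThetaGroup
open Cfsg.Agent.SmallSimple.ThetaCount Cfsg.Agent.SmallSimple.TheoremC Cfsg.Agent.SmallSimple.TheoremCCor
open Cfsg.Agent.H456.LD.HN.Tab (A5 t2 z5)

universe u

instance fact7 : Fact (Nat.Prime 7) := ⟨by norm_num⟩

variable {G : Type u} [Group G] [Finite G]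

/-- The sum of the values at the `x k`, `x ∈ P`, `x ≠ 1`. -/
noncomputable def T (P : Subgroup G) (χ : G → ℂ) (k : G) : ℂ :=
  haveI := Fintype.ofFinite P
  ∑ x : P, χ (x * k) - χ k

theorem T_eq (P : Subgroup G) [Fintype P] (χ : G → ℂ) (k : G) : T P χ k = ∑ x : P, χ (x * k) - χ k := by
  unfold T
  congr 1
  exact Finset.sum_congr (by ext; simp) fun _ _ => rfl

theorem T_erase (P : Subgroup G) [Fintype P] [DecidableEq P] (χ : G → ℂ) (k : G) :
    T P χ k = ∑ x ∈ (Finset.univ : Finset P).erase 1, χ (x * k) := by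
  rw [T_eq, ← Finset.add_sum_erase _ _ (Finset.mem_univ (1 : P))]
  simp

/-- The local data. -/
structure Loc (P : Sylow 7 G) (K : Subgroup G) (ρ : A5 ≃* K) (n0 : G) : Prop where
  hK : IsComp 7 (P : Subgroup G) K
  hP : Nat.card P = 7
  idx : (centralizer ((P : Subgroup G) : Set G)).relIndex (normalizer ((P : Subgroup G) : Set G)) = 6
  mem : n0 ∈ normalizer ((P : Subgroup G) : Set G)
  swap : ∃ k : K, n0 * (ρ z5 : K) * n0⁻¹ = ((k * (ρ z5) ^ 2 * k⁻¹ : K) : G)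

variable {P : Sylow 7 G} {K : Subgroup G} {ρ : A5 ≃* K} {n0 : G}

/-- pulling back to `A₅` -/
noncomputable def pb (ρ : A5 ≃* K) (θ : IrrCharacter K) : IrrCharacter A5 :=
  ⟨(θ : K → ℂ) ∘ ρ, isIrr_comp ρ.toMonoidHom ρ.surjective θ.2⟩

theorem pb_apply (θ : IrrCharacter K) (a : A5) : (pb ρ θ : A5 → ℂ) a = (θ : K → ℂ) (ρ a) := rfl

theorem pb_inj : Function.Injective (pb ρ) := by
  intro θ θ' h
  apply Subtype.ext
  funext k
  obtain ⟨a, rfl⟩ := ρ.surjective k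
  rw [← pb_apply (ρ := ρ), h, pb_apply]

theorem pb_surj : Function.Surjective (pb ρ) := by
  intro χ
  refine ⟨⟨(χ : A5 → ℂ) ∘ ρ.symm, isIrr_comp ρ.symm.toMonoidHom ρ.symm.surjective χ.2⟩, ?_⟩
  apply Subtype.ext
  funext a
  show (χ : A5 → ℂ) (ρ.symm (ρ a)) = _
  rw [ρ.symm_apply_apply]

/-- the twist, as an irreducible character -/
noncomputable def twi (h : Loc P K ρ n0) (θ : IrrCharacter K) {n : G} (hn : n ∈ normalizer ((P : Subgroup G) : Set G)) :
    IrrCharacter K := ⟨tw (θ : K → ℂ) n, isIrr_tw h.hK θ.2 hn⟩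

theorem twi_one (h : Loc P K ρ n0) (θ : IrrCharacter K) {n : G} (hn : n ∈ normalizer ((P : Subgroup G) : Set G)) :
    (twi h θ hn : K → ℂ) 1 = (θ : K → ℂ) 1 := by
  show tw (θ : K → ℂ) n 1 = _
  rw [tw_apply h.hK _ hn]
  have h1 : (⟨n * ((1 : K) : G) * n⁻¹, conj_mem h.hK hn (1 : K).2⟩ : K) = 1 := Subtype.ext (by simp)
  rw [h1]

theorem twi_inj (h : Loc P K ρ n0) {θ θ' : IrrCharacter K} {n : G} (hn : n ∈ normalizer ((P : Subgroup G) : Set G))
    (he : twi h θ hn = twi h θ' hn) : θ = θ' := by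
  have h1 : tw (θ : K → ℂ) n = tw (θ' : K → ℂ) n := congrArg Subtype.val he
  apply Subtype.ext
  have h2 : ∀ φ : K → ℂ, tw (tw φ n) n⁻¹ = φ := fun φ => by
    rw [← tw_mul h.hK φ hn (inv_mem hn), mul_inv_cancel, tw_one]
  rw [← h2 (θ : K → ℂ), h1, h2]

/-- **The orbits.** -/
theorem orb_cases (h : Loc P K ρ n0) (θ : IrrCharacter K) :
    ((orb P K (θ : K → ℂ)).card = 1 ∧
      (((∑ θ' ∈ orb P K (θ : K → ℂ), (θ' : K → ℂ) 1 = 1) ∧ (∑ θ' ∈ orb P K (θ : K → ℂ), (θ' : K → ℂ) (ρ t2) = 1) ∧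
        (∑ θ' ∈ orb P K (θ : K → ℂ), (θ' : K → ℂ) (ρ z5) = 1)) ∨
      ((∑ θ' ∈ orb P K (θ : K → ℂ), (θ' : K → ℂ) 1 = 4) ∧ (∑ θ' ∈ orb P K (θ : K → ℂ), (θ' : K → ℂ) (ρ t2) = 0) ∧
        (∑ θ' ∈ orb P K (θ : K → ℂ), (θ' : K → ℂ) (ρ z5) = -1)) ∨
      ((∑ θ' ∈ orb P K (θ : K → ℂ), (θ' : K → ℂ) 1 = 5) ∧ (∑ θ' ∈ orb P K (θ : K → ℂ), (θ' : K → ℂ) (ρ t2) = 1) ∧
        (∑ θ' ∈ orb P K (θ : K → ℂ), (θ' : K → ℂ) (ρ z5) = 0)))) ∨
    ((orb P K (θ : K → ℂ)).card = 2 ∧ (∑ θ' ∈ orb P K (θ : K → ℂ), (θ' : K → ℂ) 1 = 6) ∧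
      (∑ θ' ∈ orb P K (θ : K → ℂ), (θ' : K → ℂ) (ρ t2) = -2) ∧
        (∑ θ' ∈ orb P K (θ : K → ℂ), (θ' : K → ℂ) (ρ z5) = 1)) := by
  classical
  obtain ⟨a, b, c, hall, hbc, ha1, hb1, hc1, hat, haz, hbt, hbz⟩ := Tab.tab
  have hself : θ ∈ orb P K (θ : K → ℂ) := mem_orb.2 ⟨1, one_mem _, tw_one _⟩
  have hdeg : ∀ θ' ∈ orb P K (θ : K → ℂ), (θ' : K → ℂ) 1 = (θ : K → ℂ) 1 := by
    intro θ' hθ'
    obtain ⟨n, hn, hn'⟩ := mem_orb.1 hθ'
    have h1 := twi_one h θ hn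
    rw [← h1]
    show (θ' : K → ℂ) 1 = tw (θ : K → ℂ) n 1
    rw [hn']
  have hone : (Tab.one' : A5 → ℂ) 1 = 1 := rfl
  have hpb1 : ∀ ψ : IrrCharacter K, (pb ρ ψ : A5 → ℂ) 1 = (ψ : K → ℂ) 1 := fun ψ => by rw [pb_apply, map_one]
  have huniq : ∀ (d : IrrCharacter A5), pb ρ θ = d → (∀ χ : IrrCharacter A5, (χ : A5 → ℂ) 1 = (d : A5 → ℂ) 1 → χ = d) →
      orb P K (θ : K → ℂ) = {θ} := by
    intro d hd hu
    rw [Finset.eq_singleton_iff_unique_mem]
    refine ⟨hself, fun θ' hθ' => ?_⟩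
    apply pb_inj (ρ := ρ)
    rw [hd]
    apply hu
    rw [hpb1, hdeg θ' hθ', ← hpb1, hd]
  rcases hall (pb ρ θ) with h1 | h1 | h1 | h1 | h1
  · left
    rw [huniq _ h1 (fun χ hχ => by
      rw [hone] at hχ
      rcases hall χ with h2 | h2 | h2 | h2 | h2
      · exact h2
      · rw [h2, Tab.four_one] at hχ; norm_num at hχ
      · rw [h2, ha1] at hχ; norm_num at hχ
      · rw [h2, hb1] at hχ; norm_num at hχ
      · rw [h2, hc1] at hχ; norm_num at hχ)]
    refine ⟨Finset.card_singleton _, Or.inl ?_⟩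
    simp only [Finset.sum_singleton]
    rw [← map_one ρ, ← pb_apply, ← pb_apply, ← pb_apply, h1]
    exact ⟨rfl, rfl, rfl⟩
  · left
    rw [huniq _ h1 (fun χ hχ => by
      rw [Tab.four_one] at hχ
      rcases hall χ with h2 | h2 | h2 | h2 | h2
      · rw [h2, hone] at hχ; norm_num at hχ
      · exact h2
      · rw [h2, ha1] at hχ; norm_num at hχ
      · rw [h2, hb1] at hχ; norm_num at hχ
      · rw [h2, hc1] at hχ; norm_num at hχ)]
    refine ⟨Finset.card_singleton _, Or.inr (Or.inl ?_)⟩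
    simp only [Finset.sum_singleton]
    rw [← map_one ρ, ← pb_apply, ← pb_apply, ← pb_apply, h1]
    exact ⟨Tab.four_one, Tab.four_t, Tab.four_z⟩
  · left
    rw [huniq _ h1 (fun χ hχ => by
      rw [ha1] at hχ
      rcases hall χ with h2 | h2 | h2 | h2 | h2
      · rw [h2, hone] at hχ; norm_num at hχ
      · rw [h2, Tab.four_one] at hχ; norm_num at hχ
      · exact h2
      · rw [h2, hb1] at hχ; norm_num at hχ
      · rw [h2, hc1] at hχ; norm_num at hχ)]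
    refine ⟨Finset.card_singleton _, Or.inr (Or.inr ?_)⟩
    simp only [Finset.sum_singleton]
    rw [← map_one ρ, ← pb_apply, ← pb_apply, ← pb_apply, h1]
    exact ⟨ha1, hat, haz⟩
  all_goals
    right
    obtain ⟨B, hB⟩ := pb_surj (ρ := ρ) b
    obtain ⟨C, hC⟩ := pb_surj (ρ := ρ) c
    have hBC : B ≠ C := by
      rintro rfl
      exact hbc (hB.symm.trans hC)
    have hB1 : (B : K → ℂ) 1 = 3 := by rw [← hpb1, hB, hb1]
    have hC1 : (C : K → ℂ) 1 = 3 := by rw [← hpb1, hC, hc1]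
    have hthree : ∀ ψ : IrrCharacter K, (ψ : K → ℂ) 1 = 3 → ψ = B ∨ ψ = C := by
      intro ψ hψ
      rw [← hpb1] at hψ
      rcases hall (pb ρ ψ) with h2 | h2 | h2 | h2 | h2
      · rw [h2, hone] at hψ; norm_num at hψ
      · rw [h2, Tab.four_one] at hψ; norm_num at hψ
      · rw [h2, ha1] at hψ; norm_num at hψ
      · exact Or.inl (pb_inj (h2.trans hB.symm))
      · exact Or.inr (pb_inj (h2.trans hC.symm))
    -- the degrees are fixed
    have hfix : ∀ ψ : IrrCharacter K, (ψ : K → ℂ) 1 ≠ 3 → twi h ψ h.mem = ψ := by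
      intro ψ hψ
      have h3 := twi_one h ψ h.mem
      apply pb_inj (ρ := ρ)
      rw [← hpb1, ← hpb1] at h3
      rw [← hpb1] at hψ
      rcases hall (pb ρ ψ) with h2 | h2 | h2 | h2 | h2 <;>
      rcases hall (pb ρ (twi h ψ h.mem)) with h4 | h4 | h4 | h4 | h4 <;>
      rw [h2] at h3 hψ ⊢ <;> rw [h4] at h3 ⊢ <;>
      simp only [hone, Tab.four_one, ha1, hb1, hc1] at h3 hψ <;>
      first
      | rfl
      | (exfalso; revert h3 hψ; norm_num)
    have hswap : ¬ ((twi h B h.mem = B) ∧ (twi h C h.mem = C)) := by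
      rintro ⟨e1, e2⟩
      have hallfix : ∀ ψ : IrrCharacter K, twi h ψ h.mem = ψ := by
        intro ψ
        by_cases h3 : (ψ : K → ℂ) 1 = 3
        · rcases hthree ψ h3 with rfl | rfl
          · exact e1
          · exact e2
        · exact hfix ψ h3
      obtain ⟨k, hk⟩ := h.swap
      have hval : ∀ ψ : IrrCharacter K, (ψ : K → ℂ) (ρ z5) = (ψ : K → ℂ) ((ρ z5) ^ 2) := by
        intro ψ
        have h4 : (twi h ψ h.mem : K → ℂ) (ρ z5) = (ψ : K → ℂ) (ρ z5) := by rw [hallfix]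
        rw [← h4]
        show tw (ψ : K → ℂ) n0 (ρ z5) = _
        rw [tw_apply h.hK _ h.mem]
        have h5 : (⟨n0 * (ρ z5 : K) * n0⁻¹, conj_mem h.hK h.mem (ρ z5).2⟩ : K) = k * (ρ z5) ^ 2 * k⁻¹ := Subtype.ext hk
        rw [h5]
        exact isIrr_isClassFunction ψ.2 _ _
      have := Fintype.ofFinite K
      have := finite_irr (G := K)
      have := Fintype.ofFinite (IrrCharacter K)
      have h6 := Cfsg.Agent.S0145.sum_irr_mul_conj (G := K) (ρ z5) ((ρ z5) ^ 2)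
      have h7 := Cfsg.Agent.S0145.sum_irr_mul_conj (G := K) (ρ z5) (ρ z5)
      rw [if_pos (IsConj.refl _)] at h7
      rw [Finset.sum_congr rfl (fun ψ _ => by rw [← hval ψ]), h7] at h6
      by_cases h8 : IsConj (ρ z5) ((ρ z5) ^ 2)
      · obtain ⟨g, hg⟩ := isConj_iff.1 h8
        obtain ⟨g', rfl⟩ := ρ.surjective g
        refine Tab.z5_not_conj g' (ρ.injective ?_)
        rw [map_mul, map_mul, map_inv, map_pow, hg]
      · rw [if_neg h8] at h6
        have : 0 < Nat.card (centralizer ({ρ z5} : Set K)) := Nat.card_pos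
        exact this.ne' (by exact_mod_cast h6)
    have hdegtwi : ∀ ψ : IrrCharacter K, (ψ : K → ℂ) 1 = 3 → (twi h ψ h.mem = B ∨ twi h ψ h.mem = C) :=
      fun ψ hψ => hthree _ (by rw [twi_one, hψ])
    have hBne : twi h B h.mem = C ∧ twi h C h.mem = B := by
      rcases hdegtwi B hB1 with e1 | e1 <;> rcases hdegtwi C hC1 with e2 | e2
      · exact absurd (twi_inj h h.mem (e1.trans e2.symm)) hBC
      · exact absurd ⟨e1, e2⟩ hswap
      · exact ⟨e1, e2⟩
      · exact absurd (twi_inj h h.mem (e1.trans e2.symm)) hBC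
    have horb : orb P K (θ : K → ℂ) = {B, C} := by
      have hθ : θ = B ∨ θ = C := by
        first
        | exact Or.inl (pb_inj (h1.trans hB.symm))
        | exact Or.inr (pb_inj (h1.trans hC.symm))
      have hθ3 : (θ : K → ℂ) 1 = 3 := by rcases hθ with h | h <;> rw [h] <;> assumption
      ext θ'
      rw [Finset.mem_insert, Finset.mem_singleton]
      constructor
      · intro hθ'
        exact hthree θ' ((hdeg θ' hθ').trans hθ3)
      · intro hθ'
        have hmem2 : twi h θ h.mem ∈ orb P K (θ : K → ℂ) := mem_orb.2 ⟨n0, h.mem, rfl⟩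
        rcases hθ with rfl | rfl <;> rcases hθ' with rfl | rfl
        · exact hself
        · rwa [hBne.1] at hmem2
        · rwa [hBne.2] at hmem2
        · exact hself
    rw [horb]
    refine ⟨Finset.card_pair hBC, ?_, ?_, ?_⟩
    · rw [Finset.sum_pair hBC, hB1, hC1]; norm_num
    · rw [Finset.sum_pair hBC, ← pb_apply (θ := B), ← pb_apply (θ := C), hB, hC, hbt]
    · rw [Finset.sum_pair hBC, ← pb_apply (θ := B), ← pb_apply (θ := C), hB, hC, hbz]

/-! ### The values -/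

/-- the orbit sum -/
noncomputable def Th (P : Sylow 7 G) (K : Subgroup G) (θ : IrrCharacter K) (y : K) : ℂ :=
  ∑ θ' ∈ orb P K (θ : K → ℂ), (θ' : K → ℂ) y

theorem card_erase (h : Loc P K ρ n0) [Fintype (P : Subgroup G)] [DecidableEq (P : Subgroup G)] :
    ((Finset.univ : Finset (P : Subgroup G)).erase 1).card = 6 := by
  rw [Finset.card_erase_of_mem (Finset.mem_univ _), Finset.card_univ, ← Nat.card_eq_fintype_card]
  exact congrArg (· - 1) h.hP

/-- constant parts -/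
theorem T_const (h : Loc P K ρ n0) {θ : IrrCharacter K} {χ : IrrCharacter G} (hχ : χ ∈ Over P (θ : K → ℂ)) {c : ℂ}
    (hc : ∀ x : P, x ≠ 1 → part (θ : K → ℂ) (χ : G → ℂ) x = c) (y : K) :
    T (P : Subgroup G) (χ : G → ℂ) y = 6 * c * Th P K θ y := by
  classical
  have := Fintype.ofFinite (P : Subgroup G)
  rw [T_erase, Finset.sum_congr rfl (g := fun _ => c * Th P K θ y)]
  · rw [Finset.sum_const, card_erase h, nsmul_eq_mul]
    push_cast
    ring
  · intro x hx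
    exact apply_of_const h.hK h.hP θ.2 hχ hc (Finset.mem_erase.1 hx).1 y

/-- exceptional parts -/
theorem T_exc (h : Loc P K ρ n0) {θ : IrrCharacter K} {χ : IrrCharacter G} (hχ : χ ∈ Over P (θ : K → ℂ)) {d : ℤ} {e : ℕ}
    {S : Finset (P →* ℂˣ)} (hSc : S.card = e) (hS1 : 1 ∉ S)
    (hSv : ∀ x : P, x ≠ 1 → part (θ : K → ℂ) (χ : G → ℂ) x = d * ∑ l ∈ S, ((l x : ℂˣ) : ℂ)) (y : K) :
    T (P : Subgroup G) (χ : G → ℂ) y = -(d : ℂ) * e * Th P K θ y := by
  classical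
  have := Fintype.ofFinite (P : Subgroup G)
  have hpart : ∑ x ∈ (Finset.univ : Finset (P : Subgroup G)).erase 1, part (θ : K → ℂ) (χ : G → ℂ) x =
      -(d : ℂ) * e := by
    have h2 := SmallSimple.TheoremBCor.sum_exc_off (f := fun x : (P : Subgroup G) => part (θ : K → ℂ) (χ : G → ℂ) x)
      (d := (d : ℂ)) hS1 hSv
    rw [hSc] at h2
    rw [← Finset.add_sum_erase _ _ (Finset.mem_univ (1 : (P : Subgroup G)))] at h2
    linear_combination h2
  have horb : ∀ θ' ∈ orb P K (θ : K → ℂ),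
      ∑ x ∈ (Finset.univ : Finset (P : Subgroup G)).erase 1, part (θ' : K → ℂ) (χ : G → ℂ) x = -(d : ℂ) * e := by
    intro θ' hθ'
    obtain ⟨g, hg, hgθ⟩ := mem_orb.1 hθ'
    rw [← hpart, ← hgθ]
    have h3 : ∀ x : (P : Subgroup G), part (tw (θ : K → ℂ) g) (χ : G → ℂ) x =
        part (θ : K → ℂ) (χ : G → ℂ) (cP hg x : (P : Subgroup G)) := by
      intro x
      rw [← part_conj h.hK _ (isIrr_isClassFunction χ.2) hg, coe_cP]
    rw [Finset.sum_congr rfl fun x _ => h3 x]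
    refine Finset.sum_bij (fun x _ => cP hg x) ?_ ?_ ?_ ?_
    · intro x hx
      rw [Finset.mem_erase] at hx ⊢
      exact ⟨fun h1 => hx.1 ((MulEquiv.map_eq_one_iff (cP hg)).1 h1), Finset.mem_univ _⟩
    · intro x _ x' _ hxx
      exact (cP hg).injective hxx
    · intro x hx
      obtain ⟨x', rfl⟩ := (cP hg).surjective x
      refine ⟨x', ?_, rfl⟩
      rw [Finset.mem_erase] at hx ⊢
      exact ⟨fun h1 => hx.1 (by rw [h1, map_one]), Finset.mem_univ _⟩
    · intro x _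
      rfl
  have hstep : ∑ x ∈ (Finset.univ : Finset (P : Subgroup G)).erase 1, (χ : G → ℂ) (x * y) =
      ∑ x ∈ (Finset.univ : Finset (P : Subgroup G)).erase 1, ∑ θ' ∈ orb P K (θ : K → ℂ),
        part (θ' : K → ℂ) (χ : G → ℂ) x * (θ' : K → ℂ) y :=
    Finset.sum_congr rfl fun x hx => apply_mul_orb h.hK h.hP θ.2 hχ (Finset.mem_erase.1 hx).1 y
  rw [T_erase, hstep, Finset.sum_comm]
  unfold Th
  rw [Finset.mul_sum]
  refine Finset.sum_congr rfl fun θ' hθ' => ?_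
  rw [← Finset.sum_mul, horb θ' hθ']

/-- the types -/
def tyList : List (ℤ × ℤ × ℤ) := [(0, 0, 0), (1, 1, 2), (-1, -1, -2), (4, 0, -2), (-4, 0, 2), (5, 1, 0), (-5, -1, 0),
  (6, -2, 2), (-6, 2, -2), (3, -1, 1), (-3, 1, -1)]

/-- **The types of the irreducible characters.** -/
theorem types (h : Loc P K ρ n0) (χ : IrrCharacter G) : ∃ v b w : ℤ, (v, b, w) ∈ tyList ∧
    T (P : Subgroup G) (χ : G → ℂ) (1 : G) = 6 * v ∧ T (P : Subgroup G) (χ : G → ℂ) (ρ t2 : K) = 6 * b ∧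
    T (P : Subgroup G) (χ : G → ℂ) (ρ z5 : K) = 3 * w ∧
    ((v = 3 ∨ v = -3) → ∃ (NE : Finset (IrrCharacter G)) (ε : IrrCharacter G → ℤ) (d : ℤ), NE.card = 3 ∧
      (∀ ψ ∈ NE, (ε ψ = 1 ∨ ε ψ = -1) ∧ T (P : Subgroup G) (ψ : G → ℂ) (1 : G) = 36 * ε ψ) ∧ v = -3 * d ∧
      ∀ g : G, ¬ 7 ∣ orderOf g → ∑ ψ ∈ NE, (ε ψ : ℂ) * (ψ : G → ℂ) g = d * (χ : G → ℂ) g) := by
  classical
  have := Fintype.ofFinite (P : Subgroup G)
  by_cases hv : ∃ g : G, 7 ∣ orderOf g ∧ (χ : G → ℂ) g ≠ 0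
  swap
  · push Not at hv
    have hz : ∀ y : K, T (P : Subgroup G) (χ : G → ℂ) y = 0 := by
      intro y
      rw [T_erase]
      apply Finset.sum_eq_zero
      intro x hx
      apply hv
      have hx1 : (x : G) ≠ 1 := fun e => (Finset.mem_erase.1 hx).1 (Subtype.ext e)
      have hc : Commute (x : G) (y : G) := h.hK.comm x.2 y.2
      have ho := Blocks.CyclicOrtho.orderOf_eq P h.hP x.2 hx1
      have hcop : (orderOf (x : G)).Coprime (orderOf (y : G)) := by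
        rw [ho]
        exact ((Fact.out : Nat.Prime 7).coprime_iff_not_dvd).2 ((h.hK y).1 y.2).2
      rw [hc.orderOf_mul_eq_mul_orderOf_of_coprime hcop, ho]
      exact dvd_mul_right _ _
    refine ⟨0, 0, 0, by decide, ?_, ?_, ?_, fun h0 => by omega⟩
    · rw [← Subgroup.coe_one K, hz]; simp
    · rw [hz]; simp
    · rw [hz]; simp
  obtain ⟨θ, hθ⟩ := exists_mem_Over h.hK h.hP (χ := χ) hv
  have hcm := card_stabAct_mul_card_orb h.hK h.hP θ.2
  rw [h.idx] at hcm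
  have hone : ((1 : K) : G) = 1 := rfl
  rcases orb_cases h θ with ⟨hm, hcases⟩ | ⟨hm, h1, h2, h3⟩
  · have he : Nat.card (stabAct h.hK (θ : K → ℂ)) = 6 := by rw [hm] at hcm; omega
    obtain ⟨NE, X, ε, d, S, hB, -, hNE, hX, hε, hd, hval, hvalX, -, -, -⟩ := theoremC h.hK h.hP θ.2 he (t := 1) (by norm_num)
    have hs : ∃ s : ℤ, (s = 1 ∨ s = -1) ∧ ∀ y : K, T (P : Subgroup G) (χ : G → ℂ) y = 6 * s * Th P K θ y := by
      rcases (hB χ).1 hθ with hn | hn
      · exact ⟨ε χ, hε χ hn, fun y => T_const h hθ (hval χ hn) y⟩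
      · obtain ⟨hSc, hS1, -, hSv⟩ := hvalX χ hn
        refine ⟨-d, by rcases hd with rfl | rfl <;> simp, fun y => ?_⟩
        rw [T_exc h hθ hSc hS1 hSv y]
        push_cast
        ring
    obtain ⟨s, hs1, hT⟩ := hs
    have hT1 := hT 1
    rw [hone] at hT1
    rcases hcases with ⟨e1, e2, e3⟩ | ⟨e1, e2, e3⟩ | ⟨e1, e2, e3⟩
    · refine ⟨s, s, 2 * s, by rcases hs1 with rfl | rfl <;> decide, ?_, ?_, ?_, fun h0 => by omega⟩
      · rw [hT1, Th, e1]; ring
      · rw [hT, Th, e2]; ring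
      · rw [hT, Th, e3]; push_cast; ring
    · refine ⟨4 * s, 0, -2 * s, by rcases hs1 with rfl | rfl <;> decide, ?_, ?_, ?_, fun h0 => by omega⟩
      · rw [hT1, Th, e1]; push_cast; ring
      · rw [hT, Th, e2]; push_cast; ring
      · rw [hT, Th, e3]; push_cast; ring
    · refine ⟨5 * s, s, 0, by rcases hs1 with rfl | rfl <;> decide, ?_, ?_, ?_, fun h0 => by omega⟩
      · rw [hT1, Th, e1]; push_cast; ring
      · rw [hT, Th, e2]; ring
      · rw [hT, Th, e3]; push_cast; ring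
  · have he : Nat.card (stabAct h.hK (θ : K → ℂ)) = 3 := by rw [hm] at hcm; omega
    obtain ⟨NE, X, ε, d, S, hB, -, hNE, hX, hε, hd, hval, hvalX, -, -, hrel⟩ := theoremC h.hK h.hP θ.2 he (t := 2) (by norm_num)
    have hNET : ∀ ψ ∈ NE, ∀ y : K, T (P : Subgroup G) (ψ : G → ℂ) y = 6 * ε ψ * Th P K θ y := fun ψ hψ y =>
      T_const h ((hB ψ).2 (Or.inl hψ)) (hval ψ hψ) y
    rcases (hB χ).1 hθ with hn | hn
    · have hT := hNET χ hn
      have hT1 := hT 1
      rw [hone] at hT1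
      refine ⟨6 * ε χ, -2 * ε χ, 2 * ε χ, by rcases hε χ hn with h5 | h5 <;> rw [h5] <;> decide, ?_, ?_, ?_, fun h0 => by
        rcases hε χ hn with h5 | h5 <;> rw [h5] at h0 <;> omega⟩
      · rw [hT1, Th, h1]; push_cast; ring
      · rw [hT, Th, h2]; push_cast; ring
      · rw [hT, Th, h3]; push_cast; ring
    · obtain ⟨hSc, hS1, -, hSv⟩ := hvalX χ hn
      have hT : ∀ y : K, T (P : Subgroup G) (χ : G → ℂ) y = -(d : ℂ) * 3 * Th P K θ y := fun y => by
        rw [T_exc h hθ hSc hS1 hSv y]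
        norm_num
      have hT1 := hT 1
      rw [hone] at hT1
      refine ⟨-3 * d, d, -d, by rcases hd with h5 | h5 <;> rw [h5] <;> decide, ?_, ?_, ?_, fun _ =>
        ⟨NE, ε, d, hNE, fun ψ hψ => ⟨hε ψ hψ, ?_⟩, rfl, fun g hg => hrel χ hn g hg⟩⟩
      · rw [hT1, Th, h1]; push_cast; ring
      · rw [hT, Th, h2]; push_cast; ring
      · rw [hT, Th, h3]; push_cast; ring
      · have := hNET ψ hψ 1
        rw [hone, Th, h1] at this
        rw [this]
        ring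

end Cfsg.Agent.H456.LD.HN.Types
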