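import Cfsg.Agent.H456.LD.HN.Group
import Cfsg.Agent.H456.LD.HN.EnumB

/-!
# The values of the irreducible characters of the Harada–Norton group (helper456)
-/

set_option autoImplicit false
set_option maxRecDepth 100000

open scoped ComplexConjugate
open Cfsg Subgroup

namespace Cfsg.Agent.H456.LD.HN.Val

open Cfsg.Agent.Characters.Core
open Cfsg.Agent.H173.RS.HNRow (u orderOf_u card_HN)
open Cfsg.Agent.H456.LD.HN.Tab (A5 t2 z5)
open Cfsg.Agent.H456.LD.HN.Types Cfsg.Agent.H456.LD.HN.Grp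

local notation "Γ" => Cfsg.Spor.HN

/-- the degree -/
theorem deg_eq (χ : IrrCharacter Γ) : (χ : Γ → ℂ) 1 = (charDegree (χ : Γ → ℂ) : ℕ) :=
  Cfsg.Agent.Blocks.Basic.irr_one_eq_charDegree χ.2

theorem val_u {χ : IrrCharacter Γ} {v : ℤ} (h : T (P : Subgroup Γ) (χ : Γ → ℂ) 1 = 6 * v) : (χ : Γ → ℂ) u = v := by
  classical
  have := Fintype.ofFinite (P : Subgroup Γ)
  rw [T_erase, Finset.sum_congr rfl (g := fun _ => (χ : Γ → ℂ) u)] at h
  · rw [Finset.sum_const, card_erase loc, nsmul_eq_mul] at h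
    have h6 : ((6 : ℕ) : ℂ) ≠ 0 := by norm_num
    apply mul_left_cancel₀ h6
    rw [h]
    norm_num
  · intro x hx
    rw [mul_one]
    exact (Cfsg.Agent.Blocks.Basic.irr_isConj χ.2 (conj_P x.2 fun e => (Finset.mem_erase.1 hx).1 (Subtype.ext e))).symm

theorem dvd_v {χ : IrrCharacter Γ} {v : ℤ} (h : T (P : Subgroup Γ) (χ : Γ → ℂ) 1 = 6 * v) :
    (7 : ℤ) ∣ charDegree (χ : Γ → ℂ) - v := by
  have := Fintype.ofFinite (P : Subgroup Γ)
  obtain ⟨m, hm⟩ := SmallSimple.TheoremBCor.exists_sum_eq (isIrr_isCharacter χ.2) (P : Subgroup Γ)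
  rw [T_eq] at h
  simp only [mul_one] at h
  have h7 : Nat.card (P : Subgroup Γ) = 7 := hP
  rw [hm, h7, deg_eq] at h
  have h1 : (m : ℤ) * 7 - charDegree (χ : Γ → ℂ) = 6 * v := by exact_mod_cast h
  omega

theorem exists_integral (χ : IrrCharacter Γ) [Fintype (P : Subgroup Γ)] (k : K) :
    ∃ y : ℂ, IsIntegral ℤ y ∧ ∑ x : (P : Subgroup Γ), (χ : Γ → ℂ) (x * k) = 7 * y := by
  have := Fintype.ofFinite K
  let φ : K × (P : Subgroup Γ) →* Γ := K.subtype.noncommCoprod (P : Subgroup Γ).subtype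
    (fun a b => (hK.comm b.2 a.2).symm)
  have h1 := Cfsg.Agent.SmallSimple.ThetaSetup.isCharacter_inner (isCharacter_comp φ (isIrr_isCharacter χ.2))
    (isIrr_one (G := (P : Subgroup Γ)))
  refine ⟨_, Cfsg.Agent.Characters.GaloisBasic.isIntegral_apply h1 k, ?_⟩
  rw [classInner_def]
  have h7 : Nat.card (P : Subgroup Γ) = 7 := hP
  rw [h7, ← mul_assoc, show ((7 : ℂ) * ((7 : ℕ) : ℂ)⁻¹) = 1 by norm_num, one_mul]
  refine Finset.sum_congr rfl fun x _ => ?_
  have h2 : φ (k, x) = (x : Γ) * k := by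
    show (k : Γ) * x = x * k
    exact (hK.comm x.2 k.2).symm
  have h3 : ((1 : ↥(P : Subgroup Γ) → ℂ) x) = 1 := rfl
  show _ = (χ : Γ → ℂ) (φ (k, x)) * conj ((1 : ↥(P : Subgroup Γ) → ℂ) x)
  rw [h2, h3, map_one, mul_one]

theorem dvd_b {χ : IrrCharacter Γ} {b a : ℤ} (h : T (P : Subgroup Γ) (χ : Γ → ℂ) (ρ t2 : K) = 6 * b)
    (ha : (χ : Γ → ℂ) t = a) : (7 : ℤ) ∣ a - b := by
  have := Fintype.ofFinite (P : Subgroup Γ)
  obtain ⟨y, hy, hy2⟩ := exists_integral χ (ρ t2)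
  rw [T_eq, hy2, show ((ρ t2 : K) : Γ) = t from rfl, ha] at h
  have h1 : y = (((a + 6 * b : ℤ) : ℚ) / 7 : ℚ) := by
    push_cast
    linear_combination h / 7
  obtain ⟨c, hc⟩ := Cfsg.Agent.Characters.GaloisBasic.exists_int_of_isIntegral hy ⟨_, h1⟩
  rw [hc] at h
  have h2 : (7 : ℤ) * c - a = 6 * b := by exact_mod_cast h
  omega

theorem even_w {χ : IrrCharacter Γ} (hrat : ∀ g, ∃ q : ℚ, (χ : Γ → ℂ) g = q) {w : ℤ}
    (h : T (P : Subgroup Γ) (χ : Γ → ℂ) (ρ z5 : K) = 3 * w) : (2 : ℤ) ∣ w := by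
  classical
  have := Fintype.ofFinite (P : Subgroup Γ)
  obtain ⟨q, hq⟩ := Cfsg.Agent.Characters.GaloisBasic.exists_int_of_rat (isIrr_isCharacter χ.2) (u * z) (hrat _)
  have hu7 : u ^ 7 = 1 := by rw [← orderOf_u, pow_orderOf_eq_one]
  have hz5 : z ^ 5 = 1 := by rw [← orderOf_z, pow_orderOf_eq_one]
  have hcomm : Commute u z := comm_P u_memP z5
  have hval : ∀ x : (P : Subgroup Γ), x ≠ 1 → (χ : Γ → ℂ) (x * z) = q := by
    intro x hx
    have hx' : (x : Γ) ∈ zpowers u := x.2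
    obtain ⟨j, hj⟩ := mem_powers_iff_mem_zpowers.2 hx'
    have hj' : u ^ j = x := hj
    have hj7 : ¬ 7 ∣ j := by
      rintro ⟨k, rfl⟩
      apply hx
      apply Subtype.ext
      rw [← hj', pow_mul, hu7, one_pow]
      rfl
    -- `m ≡ j` modulo 7, `m ≡ 1` modulo 5
    have hm7 : (15 * j + 21) % 7 = j % 7 := by omega
    have hm5 : (15 * j + 21) % 5 = 1 := by omega
    have hcop : (15 * j + 21).Coprime 35 := by
      have h1 : (15 * j + 21).Coprime 5 := by
        rw [Nat.coprime_comm]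
        exact (Nat.Prime.coprime_iff_not_dvd (by norm_num)).2 (by omega)
      have h2 : (15 * j + 21).Coprime 7 := by
        rw [Nat.coprime_comm]
        exact (Nat.Prime.coprime_iff_not_dvd (by norm_num)).2 (by omega)
      exact Nat.Coprime.mul_right h1 h2
    obtain ⟨σ, hσ⟩ := Cfsg.Agent.Characters.GaloisBasic.exists_ringEquiv_pow (n := 35) (by norm_num) hcop
    have h35 : (u * z) ^ 35 = 1 := by
      rw [hcomm.mul_pow, show 35 = 7 * 5 by norm_num, pow_mul u, hu7, one_pow, mul_comm 7 5, pow_mul z, hz5, one_pow, one_mul]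
    have h1 := Cfsg.Agent.Characters.GaloisBasic.map_apply (σ : ℂ →+* ℂ) hσ (isIrr_isCharacter χ.2) (by norm_num) h35
    have h2 : (u * z) ^ (15 * j + 21) = x * z := by
      rw [hcomm.mul_pow, ← hj']
      congr 1
      · rw [pow_eq_pow_iff_modEq, orderOf_u]
        exact hm7
      · have : z ^ (15 * j + 21) = z ^ 1 := by
          rw [pow_eq_pow_iff_modEq, orderOf_z]
          exact hm5
        rw [this, pow_one]
    rw [h2, hq] at h1
    rw [← h1]
    simp
  rw [T_erase, show ((ρ z5 : K) : Γ) = z from rfl, Finset.sum_congr rfl (g := fun _ => (q : ℂ))] at h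
  · rw [Finset.sum_const, card_erase loc, nsmul_eq_mul] at h
    have h1 : (6 : ℤ) * q = 3 * w := by
      have : (((6 : ℕ) : ℂ)) * (q : ℂ) = 3 * w := h
      exact_mod_cast this
    omega
  · intro x hx
    exact hval x (Finset.mem_erase.1 hx).1

end Cfsg.Agent.H456.LD.HN.Val
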